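import Cfsg.Agent.StChar.Layout

/-!
Positions and signed permutations for the types B, C and BC.
-/

set_option autoImplicit false

namespace CfsgLib.StChar.BC

/-- two halves and possibly a middle -/
def Pos (k r : ℕ) := (Fin (k + 1) ⊕ Fin (k + 1)) ⊕ Fin r

variable {k r : ℕ}

/-- the first half -/
def pl (i : Fin (k + 1)) : Pos k r := Sum.inl (Sum.inl i)
/-- the second half -/
def pr (i : Fin (k + 1)) : Pos k r := Sum.inl (Sum.inr i)
/-- the middle -/
def pm (j : Fin r) : Pos k r := Sum.inr j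

/-- the height -/
def rk : Pos k r → ℕ :=
  Sum.elim (Sum.elim (fun i => i.1) (fun i => 2 * k + 2 - i.1)) (fun _ => k + 1)

@[simp] theorem rk_pl (i : Fin (k + 1)) : rk (pl i : Pos k r) = i.1 := rfl
@[simp] theorem rk_pr (i : Fin (k + 1)) : rk (pr i : Pos k r) = 2 * k + 2 - i.1 := rfl
@[simp] theorem rk_pm (j : Fin r) : rk (pm j : Pos k r) = k + 1 := rfl

theorem cases_on' (p : Pos k r) : (∃ i, p = pl i) ∨ (∃ i, p = pr i) ∨ ∃ j, p = pm j := by
  rcases p with (i | i) | j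
  exacts [Or.inl ⟨i, rfl⟩, Or.inr (Or.inl ⟨i, rfl⟩), Or.inr (Or.inr ⟨j, rfl⟩)]

@[simp] theorem pl_inj {i j : Fin (k + 1)} : (pl i : Pos k r) = pl j ↔ i = j :=
  ⟨fun h => Sum.inl_injective (Sum.inl_injective h), fun h => by rw [h]⟩
@[simp] theorem pr_inj {i j : Fin (k + 1)} : (pr i : Pos k r) = pr j ↔ i = j :=
  ⟨fun h => Sum.inr_injective (Sum.inl_injective h), fun h => by rw [h]⟩
@[simp] theorem pm_inj {i j : Fin r} : (pm i : Pos k r) = pm j ↔ i = j :=
  ⟨fun h => Sum.inr_injective h, fun h => by rw [h]⟩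
@[simp] theorem pl_ne_pr (i j : Fin (k + 1)) : (pl i : Pos k r) ≠ pr j :=
  fun h => Sum.inl_ne_inr (Sum.inl_injective h)
@[simp] theorem pr_ne_pl (i j : Fin (k + 1)) : (pr i : Pos k r) ≠ pl j := (pl_ne_pr j i).symm
@[simp] theorem pl_ne_pm (i : Fin (k + 1)) (j : Fin r) : (pl i : Pos k r) ≠ pm j :=
  fun h => Sum.inl_ne_inr h
@[simp] theorem pm_ne_pl (i : Fin (k + 1)) (j : Fin r) : (pm j : Pos k r) ≠ pl i := (pl_ne_pm i j).symm
@[simp] theorem pr_ne_pm (i : Fin (k + 1)) (j : Fin r) : (pr i : Pos k r) ≠ pm j :=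
  fun h => Sum.inl_ne_inr h
@[simp] theorem pm_ne_pr (i : Fin (k + 1)) (j : Fin r) : (pm j : Pos k r) ≠ pr i := (pr_ne_pm i j).symm

instance : DecidableEq (Pos k r) :=
  inferInstanceAs (DecidableEq ((Fin (k + 1) ⊕ Fin (k + 1)) ⊕ Fin r))

instance : Fintype (Pos k r) := inferInstanceAs (Fintype ((Fin (k + 1) ⊕ Fin (k + 1)) ⊕ Fin r))

theorem rk_injective [Subsingleton (Fin r)] : Function.Injective (rk : Pos k r → ℕ) := by
  intro p q h
  rcases cases_on' p with ⟨i, rfl⟩ | ⟨i, rfl⟩ | ⟨i, rfl⟩ <;>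
    rcases cases_on' q with ⟨j, rfl⟩ | ⟨j, rfl⟩ | ⟨j, rfl⟩ <;> simp at h <;>
    first
      | exact congrArg _ (Fin.ext (by omega))
      | exact congrArg _ (Subsingleton.elim _ _)
      | omega

instance [Subsingleton (Fin r)] : PartialOrder (Pos k r) := PartialOrder.lift rk rk_injective

theorem lt_iff [Subsingleton (Fin r)] (p q : Pos k r) : p < q ↔ rk p < rk q := Iff.rfl
theorem le_iff [Subsingleton (Fin r)] (p q : Pos k r) : p ≤ q ↔ rk p ≤ rk q := Iff.rfl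

/-- the opposite position -/
def bar : Equiv.Perm (Pos k r) :=
  (Equiv.sumCongr (Equiv.sumComm _ _) (Equiv.refl _) :
    Equiv.Perm ((Fin (k + 1) ⊕ Fin (k + 1)) ⊕ Fin r))

@[simp] theorem bar_pl (i : Fin (k + 1)) : bar (pl i : Pos k r) = pr i := rfl
@[simp] theorem bar_pr (i : Fin (k + 1)) : bar (pr i : Pos k r) = pl i := rfl
@[simp] theorem bar_pm (j : Fin r) : bar (pm j : Pos k r) = pm j := rfl

theorem rk_bar (p : Pos k r) : rk (bar p) + rk p = 2 * k + 2 := by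
  rcases cases_on' p with ⟨i, rfl⟩ | ⟨i, rfl⟩ | ⟨j, rfl⟩ <;> simp <;> omega

theorem bar_bar (p : Pos k r) : bar (bar p) = p := by
  rcases cases_on' p with ⟨i, rfl⟩ | ⟨i, rfl⟩ | ⟨j, rfl⟩ <;> rfl

theorem anti [Subsingleton (Fin r)] (p q : Pos k r) (h : p ≤ q) : bar q ≤ bar p := by
  rw [le_iff] at *
  have := rk_bar p; have := rk_bar q; omega

/-- permutations commuting with the opposition -/
def W (k r : ℕ) : Subgroup (Equiv.Perm (Pos k r)) where
  carrier := {π | ∀ p, π (bar p) = bar (π p)}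
  one_mem' := fun _ => rfl
  mul_mem' := fun {a b} ha hb p => by
    simp only [Equiv.Perm.mul_apply]; rw [hb, ha]
  inv_mem' := fun {a} ha p => by
    apply a.injective
    rw [ha, Equiv.Perm.inv_def, Equiv.apply_symm_apply, Equiv.apply_symm_apply]

theorem bar_mem : bar ∈ W k r := fun _ => rfl

theorem mid_fixed {π : Equiv.Perm (Pos k r)} (hπ : π ∈ W k r) [Subsingleton (Fin r)] (j : Fin r) :
    π (pm j) = pm j := by
  have h := hπ (pm j)
  rw [bar_pm] at h
  rcases cases_on' (π (pm j)) with ⟨i, e⟩ | ⟨i, e⟩ | ⟨l, e⟩ <;> rw [e] at h ⊢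
  · rw [bar_pl] at h; exact absurd (congrArg rk h) (by simp; omega)
  · rw [bar_pr] at h; exact absurd (congrArg rk h) (by simp; omega)
  · rw [Subsingleton.elim l j]

/-- the pair of a position -/
def idx : Pos k r → Fin (k + 1) := Sum.elim (Sum.elim id id) (fun _ => 0)

/-- the induced map on the pairs -/
def pairFun (π : Equiv.Perm (Pos k r)) (i : Fin (k + 1)) : Fin (k + 1) := idx (π (pl i))

theorem pair_spec [Subsingleton (Fin r)] {π : Equiv.Perm (Pos k r)} (hπ : π ∈ W k r)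
    (i : Fin (k + 1)) :
    π (pl i) = pl (pairFun π i) ∧ π (pr i) = pr (pairFun π i) ∨
      π (pl i) = pr (pairFun π i) ∧ π (pr i) = pl (pairFun π i) := by
  have hr : π (pr i) = bar (π (pl i)) := by rw [← hπ (pl i), bar_pl]
  rcases cases_on' (π (pl i)) with ⟨j, e⟩ | ⟨j, e⟩ | ⟨j, e⟩
  · left; rw [hr, pairFun, e]; exact ⟨rfl, rfl⟩
  · right; rw [hr, pairFun, e]; exact ⟨rfl, rfl⟩
  · have := π.injective (e.trans (mid_fixed hπ j).symm)
    exact absurd (congrArg rk this) (by simp; omega)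

theorem pair_mul [Subsingleton (Fin r)] {a b : Equiv.Perm (Pos k r)} (ha : a ∈ W k r)
    (hb : b ∈ W k r) (i : Fin (k + 1)) : pairFun (a * b) i = pairFun a (pairFun b i) := by
  rw [pairFun, Equiv.Perm.mul_apply]
  rcases pair_spec hb i with ⟨h, -⟩ | ⟨h, -⟩ <;> rw [h]
  · rfl
  · rw [← bar_pl, ha]
    rcases pair_spec ha (pairFun b i) with ⟨h', -⟩ | ⟨h', -⟩ <;> rw [h'] <;> rfl

/-- the permutation of the pairs -/
def pairPerm [Subsingleton (Fin r)] : W k r →* Equiv.Perm (Fin (k + 1)) where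
  toFun π :=
    { toFun := pairFun (π : Equiv.Perm (Pos k r))
      invFun := pairFun ((π⁻¹ : W k r) : Equiv.Perm (Pos k r))
      left_inv := fun i => by
        rw [← pair_mul (π⁻¹).2 π.2, ← Subgroup.coe_mul, inv_mul_cancel]; rfl
      right_inv := fun i => by
        rw [← pair_mul π.2 (π⁻¹).2, ← Subgroup.coe_mul, mul_inv_cancel]; rfl }
  map_one' := Equiv.ext fun _ => rfl
  map_mul' a b := Equiv.ext fun i => pair_mul a.2 b.2 i

/-- the sign character -/
def eps [Subsingleton (Fin r)] : W k r →* ℤˣ :=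
  (Equiv.Perm.sign.comp (W k r).subtype) * (Equiv.Perm.sign.comp pairPerm)

/-- the simple reflection between neighbouring pairs -/
def sw (i : Fin k) : Equiv.Perm (Pos k r) :=
  Equiv.swap (pl i.castSucc) (pl i.succ) * Equiv.swap (pr i.castSucc) (pr i.succ)

/-- the simple reflection of the last pair -/
def swLast : Equiv.Perm (Pos k r) := Equiv.swap (pl (Fin.last k)) (pr (Fin.last k))

/-- the roots of a simple reflection -/
def Rsw (i : Fin k) (p q : Pos k r) : Prop :=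
  (p = pl i.castSucc ∧ q = pl i.succ) ∨ (p = pr i.succ ∧ q = pr i.castSucc)

/-- the roots of the last reflection -/
def RLast (p q : Pos k r) : Prop :=
  (p = pl (Fin.last k) ∧ ∃ j, q = pm j) ∨ ((∃ j, p = pm j) ∧ q = pr (Fin.last k)) ∨
    (p = pl (Fin.last k) ∧ q = pr (Fin.last k))

theorem sw_pl (i : Fin k) (j : Fin (k + 1)) :
    sw i (pl j : Pos k r) = pl (Equiv.swap i.castSucc i.succ j) := by
  simp only [sw, Equiv.Perm.mul_apply]
  rw [Equiv.swap_apply_of_ne_of_ne (pl_ne_pr _ _) (pl_ne_pr _ _)]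
  simp only [Equiv.swap_apply_def, pl_inj]
  split_ifs <;> rfl

theorem sw_pr (i : Fin k) (j : Fin (k + 1)) :
    sw i (pr j : Pos k r) = pr (Equiv.swap i.castSucc i.succ j) := by
  simp only [sw, Equiv.Perm.mul_apply, Equiv.swap_apply_def, pr_inj]
  split_ifs <;> simp_all

theorem sw_pm (i : Fin k) (j : Fin r) : sw i (pm j : Pos k r) = pm j := by
  simp [sw, Equiv.swap_apply_def]

theorem swLast_pl (j : Fin (k + 1)) :
    swLast (pl j : Pos k r) = if j = Fin.last k then pr j else pl j := by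
  simp only [swLast, Equiv.swap_apply_def, pl_inj, pl_ne_pr, if_false]
  split_ifs <;> simp_all

theorem swLast_pr (j : Fin (k + 1)) :
    swLast (pr j : Pos k r) = if j = Fin.last k then pl j else pr j := by
  simp only [swLast, Equiv.swap_apply_def, pr_inj, pr_ne_pl, if_false]
  split_ifs <;> simp_all

theorem swLast_pm (j : Fin r) : swLast (pm j : Pos k r) = pm j := by
  simp [swLast, Equiv.swap_apply_def]

theorem sw_sq (i : Fin k) : (sw i * sw i : Equiv.Perm (Pos k r)) = 1 := by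
  refine Equiv.ext fun p => ?_
  rw [Equiv.Perm.mul_apply]
  rcases cases_on' p with ⟨j, rfl⟩ | ⟨j, rfl⟩ | ⟨j, rfl⟩ <;>
    simp [sw_pl, sw_pr, sw_pm, Equiv.swap_apply_self]

theorem swLast_sq : (swLast * swLast : Equiv.Perm (Pos k r)) = 1 := Equiv.swap_mul_self _ _

variable [Subsingleton (Fin r)]

theorem sw_eps (i : Fin k) : ∃ h : (sw i : Equiv.Perm (Pos k r)) ∈ W k r, eps ⟨_, h⟩ = -1 := by
  have h : (sw i : Equiv.Perm (Pos k r)) ∈ W k r := fun p => by
    rcases cases_on' p with ⟨j, rfl⟩ | ⟨j, rfl⟩ | ⟨j, rfl⟩ <;> simp [sw_pl, sw_pr, sw_pm]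
  refine ⟨h, ?_⟩
  have hp : pairPerm ⟨_, h⟩ = Equiv.swap i.castSucc i.succ := by
    refine Equiv.ext fun j => ?_
    show idx (sw i (pl j : Pos k r)) = _
    rw [sw_pl]; rfl
  have hne : i.castSucc ≠ i.succ := (Fin.castSucc_lt_succ (i := i)).ne
  show Equiv.Perm.sign (sw i : Equiv.Perm (Pos k r)) * Equiv.Perm.sign (pairPerm ⟨_, h⟩) = -1
  rw [hp, Equiv.Perm.sign_swap hne, sw, map_mul, Equiv.Perm.sign_swap, Equiv.Perm.sign_swap]
  · decide
  · simp [hne]
  · simp [hne]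

theorem swLast_eps : ∃ h : (swLast : Equiv.Perm (Pos k r)) ∈ W k r, eps ⟨_, h⟩ = -1 := by
  have h : (swLast : Equiv.Perm (Pos k r)) ∈ W k r := fun p => by
    rcases cases_on' p with ⟨j, rfl⟩ | ⟨j, rfl⟩ | ⟨j, rfl⟩ <;>
      simp [swLast_pl, swLast_pr, swLast_pm] <;> split_ifs <;> simp
  refine ⟨h, ?_⟩
  have hp : pairPerm ⟨_, h⟩ = 1 := by
    refine Equiv.ext fun j => ?_
    show idx (swLast (pl j : Pos k r)) = _
    rw [swLast_pl]; split_ifs <;> rfl
  show Equiv.Perm.sign (swLast : Equiv.Perm (Pos k r)) * Equiv.Perm.sign (pairPerm ⟨_, h⟩) = -1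
  rw [hp, swLast, Equiv.Perm.sign_swap (pl_ne_pr _ _), map_one, mul_one]

theorem rk_map {π : Equiv.Perm (Pos k r)} (hπ : π ∈ W k r) (p : Pos k r) :
    rk (π (bar p)) + rk (π p) = 2 * k + 2 := by rw [hπ]; exact rk_bar _

theorem Rsw_lt (i : Fin k) (p q : Pos k r) (h : Rsw i p q) : p < q := by
  rw [lt_iff]
  rcases h with ⟨rfl, rfl⟩ | ⟨rfl, rfl⟩ <;> simp <;> omega

theorem RLast_lt (p q : Pos k r) (h : RLast p q) : p < q := by
  rw [lt_iff]
  rcases h with ⟨rfl, j, rfl⟩ | ⟨⟨j, rfl⟩, rfl⟩ | ⟨rfl, rfl⟩ <;> simp <;> omega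

theorem Rsw_trans (i : Fin k) (p q s : Pos k r) (h : Rsw i p q) (h' : Rsw i q s) : Rsw i p s := by
  rcases h with ⟨rfl, rfl⟩ | ⟨rfl, rfl⟩ <;> rcases h' with ⟨h1, rfl⟩ | ⟨h1, rfl⟩ <;>
    (have := congrArg rk h1; simp [Fin.val_succ] at this <;> omega)

theorem RLast_trans (p q s : Pos k r) (h : RLast p q) (h' : RLast q s) : RLast p s := by
  rcases h with ⟨rfl, j, rfl⟩ | ⟨⟨j, rfl⟩, rfl⟩ | ⟨rfl, rfl⟩ <;>
    rcases h' with ⟨h1, j', rfl⟩ | ⟨⟨j', h1⟩, rfl⟩ | ⟨h1, rfl⟩ <;>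
    first
      | (exact Or.inr (Or.inr ⟨rfl, rfl⟩))
      | (have := congrArg rk h1; simp at this <;> omega)

theorem Rsw_rev (i : Fin k) (p q : Pos k r) (h : Rsw i p q) : Rsw i (sw i q) (sw i p) := by
  rcases h with ⟨rfl, rfl⟩ | ⟨rfl, rfl⟩
  · left; simp [sw_pl]
  · right; simp [sw_pr]

theorem RLast_rev (p q : Pos k r) (h : RLast p q) : RLast (swLast q) (swLast p) := by
  rcases h with ⟨rfl, j, rfl⟩ | ⟨⟨j, rfl⟩, rfl⟩ | ⟨rfl, rfl⟩
  · right; left; simp [swLast_pl, swLast_pm]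
  · left; simp [swLast_pr, swLast_pm]
  · right; right; simp [swLast_pl, swLast_pr]

theorem Rsw_out (i : Fin k) (p q : Pos k r) (hpq : p < q) (h : ¬ Rsw i p q) : sw i p < sw i q := by
  rw [lt_iff] at *
  have hA : ∀ j : Fin (k + 1), (Equiv.swap i.castSucc i.succ j).1 =
      if j.1 = i.1 then i.1 + 1 else if j.1 = i.1 + 1 then i.1 else j.1 := by
    intro j
    rw [Equiv.swap_apply_def]
    simp only [Fin.ext_iff, Fin.val_castSucc, Fin.val_succ]
    split_ifs <;> simp_all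
  rcases cases_on' p with ⟨a, rfl⟩ | ⟨a, rfl⟩ | ⟨a, rfl⟩ <;>
    rcases cases_on' q with ⟨b, rfl⟩ | ⟨b, rfl⟩ | ⟨b, rfl⟩ <;>
    simp only [sw_pl, sw_pr, sw_pm, rk_pl, rk_pr, rk_pm, hA] at hpq ⊢ <;>
    simp [Rsw, Fin.ext_iff] at h <;> first | omega | (split_ifs <;> omega)

theorem RLast_out (p q : Pos k r) (hpq : p < q) (h : ¬ RLast p q) : swLast p < swLast q := by
  rw [lt_iff] at *
  rcases cases_on' p with ⟨a, rfl⟩ | ⟨a, rfl⟩ | ⟨a, rfl⟩ <;>
    rcases cases_on' q with ⟨b, rfl⟩ | ⟨b, rfl⟩ | ⟨b, rfl⟩ <;>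
    simp only [swLast_pl, swLast_pr, swLast_pm, rk_pl, rk_pr, rk_pm, apply_ite rk] at hpq ⊢ <;>
    simp [RLast, Fin.ext_iff] at h <;> first
      | omega
      | (split_ifs <;> simp_all [Fin.ext_iff, Fin.val_last] <;> omega)

theorem Rsw_orient (i : Fin k) {π : Equiv.Perm (Pos k r)} (hπ : π ∈ W k r) :
    (∀ p q, Rsw i p q → π p < π q) ∨ (∀ p q, Rsw i p q → π q < π p) := by
  simp only [lt_iff]
  have h1 := rk_map hπ (pl i.castSucc : Pos k r)
  have h2 := rk_map hπ (pl i.succ : Pos k r)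
  rw [bar_pl] at h1 h2
  have hne : rk (π (pl i.castSucc : Pos k r)) ≠ rk (π (pl i.succ)) := fun e => by
    have := congrArg rk (π.injective (rk_injective e))
    simp at this
  rcases lt_or_gt_of_ne hne with h | h
  · left; rintro p q (⟨rfl, rfl⟩ | ⟨rfl, rfl⟩) <;> omega
  · right; rintro p q (⟨rfl, rfl⟩ | ⟨rfl, rfl⟩) <;> omega

theorem RLast_orient {π : Equiv.Perm (Pos k r)} (hπ : π ∈ W k r) :
    (∀ p q, RLast p q → π p < π q) ∨ (∀ p q, RLast p q → π q < π p) := by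
  simp only [lt_iff]
  have h1 := rk_map hπ (pl (Fin.last k) : Pos k r)
  rw [bar_pl] at h1
  have hne : rk (π (pl (Fin.last k) : Pos k r)) ≠ rk (π (pr (Fin.last k))) := fun e => by
    have := congrArg rk (π.injective (rk_injective e))
    simp at this; omega
  rcases lt_or_gt_of_ne hne with h | h
  · left
    rintro p q (⟨rfl, j, rfl⟩ | ⟨⟨j, rfl⟩, rfl⟩ | ⟨rfl, rfl⟩) <;>
      first
        | (rw [mid_fixed hπ, rk_pm]; omega)
        | omega
  · right
    rintro p q (⟨rfl, j, rfl⟩ | ⟨⟨j, rfl⟩, rfl⟩ | ⟨rfl, rfl⟩) <;>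
      first
        | (rw [mid_fixed hπ, rk_pm]; omega)
        | omega

/-- increasing on every simple root means trivial -/
theorem eq_one_of_increasing {π : Equiv.Perm (Pos k r)} (hπ : π ∈ W k r)
    (h1 : ∀ i : Fin k, π (pl i.castSucc) < π (pl i.succ))
    (h2 : π (pl (Fin.last k)) < π (pr (Fin.last k))) : π = 1 := by
  simp only [lt_iff] at h1 h2
  let f : Fin (k + 1) → ℕ := fun i => rk (π (pl i))
  have hf : StrictMono f := Fin.strictMono_iff_lt_succ.2 h1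
  have hlast : f (Fin.last k) ≤ k := by
    have := rk_map hπ (pl (Fin.last k) : Pos k r)
    rw [bar_pl] at this
    show rk _ ≤ k
    omega
  have hb : ∀ i, f i < k + 1 := fun i =>
    Nat.lt_succ_of_le ((hf.monotone (Fin.le_last i)).trans hlast)
  let g : Fin (k + 1) → Fin (k + 1) := fun i => ⟨f i, hb i⟩
  have hg : g = id := StrictMono.eq_id (fun a b h => hf h)
  have hl : ∀ i, π (pl i : Pos k r) = pl i := fun i => rk_injective (by
    have := congrArg Fin.val (congrFun hg i)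
    simpa [g, f] using this)
  refine Equiv.ext fun p => ?_
  rcases cases_on' p with ⟨i, rfl⟩ | ⟨i, rfl⟩ | ⟨j, rfl⟩
  · exact hl i
  · rw [← bar_pl, hπ, hl]; rfl
  · exact mid_fixed hπ j

end CfsgLib.StChar.BC
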