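import Mathlib
import Cfsg.Prelude.Def_Characters
import Cfsg.Agent.CharBasics.Abstract

/-!
The Steinberg character from apartment data: the span of the translates of one alternating vector
on `G ⧸ B` is an irreducible module on which `U` acts regularly.
-/

set_option autoImplicit false
set_option maxHeartbeats 1000000

namespace CfsgLib.StChar

open scoped ComplexConjugate

/-- apartment data -/
structure Apt (G : Type*) [Group G] where
  B : Subgroup G
  U : Subgroup G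
  N : Subgroup G
  ε : N →* ℤˣ
  S : Set G
  X : G → Subgroup G
  n0 : G
  U_le : U ≤ B
  S_sub : S ⊆ (N : Set G)
  n0_mem : n0 ∈ N
  gen : Subgroup.closure ((U : Set G) ∪ S ∪ {t | t ∈ N ∧ t ∈ B}) = ⊤
  normU : ∀ t ∈ N, t ∈ B → ∀ u ∈ U, t * u * t⁻¹ ∈ U
  normal : ∀ n ∈ N, ∀ t ∈ N, t ∈ B → n * t * n⁻¹ ∈ B
  eps_B : ∀ n : N, (n : G) ∈ B → ε n = 1
  eps_S : ∀ n : N, (n : G) ∈ S → ε n = -1
  sq : ∀ s ∈ S, s * s ∈ B
  X_le : ∀ s ∈ S, X s ≤ U
  X_nt : ∀ s ∈ S, ∃ x ∈ X s, x ≠ 1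
  factor : ∀ s ∈ S, ∀ u ∈ U, ∃ u' ∈ U, ∃ x ∈ X s, s * u' * s⁻¹ ∈ U ∧ u = u' * x
  dich : ∀ s ∈ S, ∀ n ∈ N, (∀ x ∈ X s, n⁻¹ * x * n ∈ B) ∨ (∀ x ∈ X s, (s * n)⁻¹ * x * (s * n) ∈ B)
  rank1 : ∀ s ∈ S, ∀ x ∈ X s, x ≠ 1 → ∃ x' ∈ X s, ∃ h ∈ N, ∃ x'' ∈ X s,
    h ∈ B ∧ s * x * s = x' * s * h * x''
  opp : ∀ u ∈ U, ∀ n ∈ N, n⁻¹ * u * n0 ∈ B → u = 1

namespace Apt

variable {G : Type*} [Group G] (D : Apt G)

/-- the point of `G ⧸ B` -/
abbrev pt (g : G) : G ⧸ D.B := (g : G ⧸ D.B)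

theorem pt_eq_iff {g h : G} : D.pt g = D.pt h ↔ g⁻¹ * h ∈ D.B := QuotientGroup.eq

theorem smul_pt (g h : G) : g • D.pt h = D.pt (g * h) := rfl

/-- the points of the apartment -/
def IsApt (x : G ⧸ D.B) : Prop := ∃ n : D.N, D.pt n = x

open Classical in
/-- the alternating vector -/
noncomputable def e (x : G ⧸ D.B) : ℂ :=
  if h : D.IsApt x then ((D.ε h.choose : ℤ) : ℂ) else 0

theorem e_pt (n : D.N) : D.e (D.pt n) = ((D.ε n : ℤ) : ℂ) := by
  have h : D.IsApt (D.pt n) := ⟨n, rfl⟩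
  rw [e, dif_pos h]
  have h1 : (((h.choose⁻¹ * n : D.N)) : G) ∈ D.B := D.pt_eq_iff.1 h.choose_spec
  have h2 := D.eps_B _ h1
  rw [map_mul, map_inv, inv_mul_eq_one] at h2
  rw [h2]

theorem e_of_not {x : G ⧸ D.B} (h : ¬ D.IsApt x) : D.e x = 0 := dif_neg h

theorem norm_e_le (x : G ⧸ D.B) : ‖D.e x‖ ≤ 1 := by
  by_cases h : D.IsApt x
  · obtain ⟨n, rfl⟩ := h
    rw [D.e_pt]
    rcases Int.units_eq_one_or (D.ε n) with e | e <;> simp [e]
  · simp [D.e_of_not h]

/-- translation of functions -/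
def τ : Representation ℂ G ((G ⧸ D.B) → ℂ) where
  toFun g := LinearMap.funLeft ℂ ℂ fun x => g⁻¹ • x
  map_one' := by ext f x; simp [LinearMap.funLeft]
  map_mul' g h := by ext f x; simp [LinearMap.funLeft, mul_smul]

theorem τ_apply (g : G) (f : (G ⧸ D.B) → ℂ) (x : G ⧸ D.B) : D.τ g f x = f (g⁻¹ • x) := rfl

theorem τ_mul (g h : G) (f : (G ⧸ D.B) → ℂ) : D.τ (g * h) f = D.τ g (D.τ h f) := by
  rw [map_mul]; rfl

/-- the span of the translates under `U` -/
noncomputable def L : Submodule ℂ ((G ⧸ D.B) → ℂ) :=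
  Submodule.span ℂ (Set.range fun u : D.U => D.τ (u : G) D.e)

theorem mem_L (u : D.U) : D.τ (u : G) D.e ∈ D.L := Submodule.subset_span ⟨u, rfl⟩

theorem L_U {g : G} (hg : g ∈ D.U) {f : (G ⧸ D.B) → ℂ} (hf : f ∈ D.L) : D.τ g f ∈ D.L := by
  induction hf using Submodule.span_induction with
  | mem x hx =>
    obtain ⟨u, rfl⟩ := hx
    rw [← τ_mul]
    exact D.mem_L (⟨g, hg⟩ * u)
  | zero => rw [map_zero]; exact zero_mem _
  | add x y _ _ hx hy => rw [map_add]; exact add_mem hx hy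
  | smul c x _ hx => rw [map_smul]; exact Submodule.smul_mem _ c hx

theorem not_both {s : G} (hs : s ∈ D.S) {n : G} (hn : n ∈ D.N)
    (h1 : ∀ x ∈ D.X s, n⁻¹ * x * n ∈ D.B) (h2 : ∀ x ∈ D.X s, (s * n)⁻¹ * x * (s * n) ∈ D.B) :
    False := by
  obtain ⟨x, hx, hx1⟩ := D.X_nt s hs
  obtain ⟨x', hx', h, hhN, x'', hx'', hhB, e⟩ := D.rank1 s hs x hx hx1
  have a1 : n⁻¹ * (s * x * s) * n ∈ D.B := by
    have hT : n⁻¹ * (s * s) * n ∈ D.B := by
      have := D.normal n⁻¹ (inv_mem hn) (s * s) (mul_mem (D.S_sub hs) (D.S_sub hs)) (D.sq s hs)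
      rwa [inv_inv] at this
    have := mul_mem hT (h2 x hx)
    rwa [show n⁻¹ * (s * s) * n * ((s * n)⁻¹ * x * (s * n)) = n⁻¹ * (s * x * s) * n by group] at this
  have a2 : n⁻¹ * (h * x'') * n ∈ D.B := by
    have h3 := D.normal n⁻¹ (inv_mem hn) h hhN hhB
    rw [inv_inv] at h3
    have := mul_mem h3 (h1 x'' hx'')
    rwa [show n⁻¹ * h * n * (n⁻¹ * x'' * n) = n⁻¹ * (h * x'') * n by group] at this
  have a3 : n⁻¹ * s * n ∈ D.B := by
    have := mul_mem (mul_mem (inv_mem (h1 x' hx')) a1) (inv_mem a2)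
    rwa [e, show (n⁻¹ * x' * n)⁻¹ * (n⁻¹ * (x' * s * h * x'') * n) * (n⁻¹ * (h * x'') * n)⁻¹ =
      n⁻¹ * s * n by group] at this
  have hsN := D.S_sub hs
  have a4 : s ∈ D.B := by
    have := D.normal n hn _ (mul_mem (mul_mem (inv_mem hn) hsN) hn) a3
    rwa [show n * (n⁻¹ * s * n) * n⁻¹ = s by group] at this
  have := (D.eps_B ⟨s, hsN⟩ a4).symm.trans (D.eps_S ⟨s, hsN⟩ hs)
  exact absurd this (by decide)

/-- the relation between the apartments meeting in a panel -/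
theorem τ_rel [Finite G] {s : G} (hs : s ∈ D.S) {x : G} (hx : x ∈ D.X s) (hx1 : x ≠ 1) :
    ∃ x' ∈ D.X s, D.τ (s * x) D.e = D.τ x' D.e - D.e := by
  classical
  obtain ⟨x', hx', h, hhN, x'', hx'', hhB, he⟩ := D.rank1 s hs x hx hx1
  refine ⟨x', hx', ?_⟩
  haveI := Fintype.ofFinite G
  haveI := Fintype.ofFinite (G ⧸ D.B)
  let A : Finset (G ⧸ D.B) := Finset.univ.filter D.IsApt
  have hA : ∀ g : G, ∀ y, D.τ g D.e y = ∑ a ∈ A, if g • a = y then D.e a else 0 := by
    intro g y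
    rw [τ_apply]
    by_cases hy : D.IsApt (g⁻¹ • y)
    · rw [Finset.sum_eq_single (g⁻¹ • y)]
      · simp
      · intro a _ ha
        rw [if_neg]; intro e; exact ha (by rw [← e, inv_smul_smul])
      · intro hh; exact absurd (Finset.mem_filter.2 ⟨Finset.mem_univ _, hy⟩) hh
    · rw [D.e_of_not hy, Finset.sum_eq_zero]
      intro a ha
      rw [if_neg]; intro e; exact hy (by rw [← e, inv_smul_smul]; exact (Finset.mem_filter.1 ha).2)
  let P : G ⧸ D.B → Prop := fun a => ∀ z ∈ D.X s, z • a = a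
  have hP : ∀ n : D.N, P (D.pt n) ↔ ∀ z ∈ D.X s, (n : G)⁻¹ * z * n ∈ D.B := by
    intro n
    constructor <;> intro hh z hz
    · have := hh z hz
      rw [smul_pt, pt_eq_iff] at this
      have := inv_mem this
      simpa [mul_assoc] using this
    · rw [smul_pt, pt_eq_iff]
      have := inv_mem (hh z hz)
      simpa [mul_assoc] using this
  have hs2 : ∀ n : D.N, (s * s) • D.pt n = D.pt n := fun n => by
    rw [smul_pt, pt_eq_iff]
    have h3 := D.normal (n : G)⁻¹ (inv_mem n.2) _ (mul_mem (D.S_sub hs) (D.S_sub hs)) (D.sq s hs)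
    rw [inv_inv] at h3
    simpa [mul_assoc] using inv_mem h3
  have hsA : ∀ a ∈ A, s • a ∈ A ∧ D.e (s • a) = -D.e a ∧ s • s • a = a ∧ (P (s • a) ↔ ¬ P a) := by
    intro a ha
    obtain ⟨n, rfl⟩ := (Finset.mem_filter.1 ha).2
    have e1 : s • D.pt n = D.pt ((⟨s, D.S_sub hs⟩ * n : D.N) : G) := rfl
    refine ⟨Finset.mem_filter.2 ⟨Finset.mem_univ _, _, e1.symm⟩, ?_, ?_, ?_⟩
    · rw [e1, e_pt, e_pt, map_mul, D.eps_S _ hs]; simp
    · rw [← mul_smul, hs2]
    · rw [e1, hP, hP]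
      rcases D.dich s hs n n.2 with h1 | h1
      · exact ⟨fun h2 _ => D.not_both hs n.2 h1 h2, fun h2 => absurd h1 h2⟩
      · exact ⟨fun _ h2 => D.not_both hs n.2 h2 h1, fun _ => h1⟩
  have hsx : ∀ a ∈ A, P a → (s * x) • a = s • a ∧ x' • a = a ∧ (s * x) • (s • a) = x' • (s • a) := by
    intro a ha hPa
    obtain ⟨n, rfl⟩ := (Finset.mem_filter.1 ha).2
    refine ⟨by rw [mul_smul, hPa x hx], hPa x' hx', ?_⟩
    rw [← mul_smul (s * x) s, he, mul_smul, hPa x'' hx'', mul_smul, mul_smul]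
    congr 2
    rw [smul_pt, pt_eq_iff]
    have h3 := D.normal (n : G)⁻¹ (inv_mem n.2) h hhN hhB
    rw [inv_inv] at h3
    simpa [mul_assoc] using inv_mem h3
  funext y
  rw [Pi.sub_apply, hA, hA, show D.e y = D.τ 1 D.e y by simp, hA, ← Finset.sum_sub_distrib]
  rw [← Finset.sum_filter_add_sum_filter_not A P, ← Finset.sum_filter_add_sum_filter_not A P
    (f := fun a => (if x' • a = y then D.e a else 0) - if (1 : G) • a = y then D.e a else 0)]
  have hflip : ∀ f : G ⧸ D.B → ℂ, ∑ a ∈ A.filter (fun a => ¬ P a), f a =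
      ∑ a ∈ A.filter P, f (s • a) := by
    intro f
    refine Finset.sum_nbij' (fun a => s • a) (fun a => s • a) ?_ ?_ ?_ ?_ ?_
    · intro a ha
      obtain ⟨ha, hPa⟩ := Finset.mem_filter.1 ha
      obtain ⟨g1, -, -, g4⟩ := hsA a ha
      exact Finset.mem_filter.2 ⟨g1, g4.2 hPa⟩
    · intro a ha
      obtain ⟨ha, hPa⟩ := Finset.mem_filter.1 ha
      obtain ⟨g1, -, g3, g4⟩ := hsA a ha
      exact Finset.mem_filter.2 ⟨g1, fun h => g4.1 h hPa⟩
    · intro a ha; exact (hsA a (Finset.mem_filter.1 ha).1).2.2.1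
    · intro a ha; exact (hsA a (Finset.mem_filter.1 ha).1).2.2.1
    · intro a ha; rw [(hsA a (Finset.mem_filter.1 ha).1).2.2.1]
  rw [hflip, hflip, ← Finset.sum_add_distrib, ← Finset.sum_add_distrib]
  refine Finset.sum_congr rfl fun a ha => ?_
  obtain ⟨ha, hPa⟩ := Finset.mem_filter.1 ha
  obtain ⟨g1, g2, g3⟩ := hsx a ha hPa
  rw [g1, g2, g3, (hsA a ha).2.1, one_smul, one_smul]
  split_ifs <;> ring

theorem L_S [Finite G] {s : G} (hs : s ∈ D.S) {f : (G ⧸ D.B) → ℂ} (hf : f ∈ D.L) :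
    D.τ s f ∈ D.L := by
  induction hf using Submodule.span_induction with
  | mem y hy =>
    obtain ⟨⟨u, hu⟩, rfl⟩ := hy
    obtain ⟨u', hu', x, hx, hsu, rfl⟩ := D.factor s hs u hu
    rw [← τ_mul, show s * (u' * x) = (s * u' * s⁻¹) * (s * x) by group, τ_mul]
    refine D.L_U hsu ?_
    have he : D.e ∈ D.L := by simpa using D.mem_L 1
    rcases eq_or_ne x 1 with rfl | hx1
    · rw [mul_one]
      have : D.τ s D.e = -D.e := by
        funext y
        rw [τ_apply, Pi.neg_apply]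
        have hsN := inv_mem (D.S_sub hs)
        by_cases hy : D.IsApt y
        · obtain ⟨n, rfl⟩ := hy
          have : s⁻¹ • D.pt n = D.pt ((⟨s, D.S_sub hs⟩⁻¹ * n : D.N) : G) := rfl
          rw [this, e_pt, e_pt, map_mul, map_inv, D.eps_S _ hs]; simp
        · rw [D.e_of_not hy, D.e_of_not, neg_zero]
          rintro ⟨n, hn⟩
          refine hy ⟨⟨s, D.S_sub hs⟩ * n, ?_⟩
          show s • D.pt n = y
          rw [hn, smul_inv_smul]
      rw [this]; exact neg_mem he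
    · obtain ⟨x', hx', e⟩ := D.τ_rel hs hx hx1
      rw [e]
      exact sub_mem (D.mem_L ⟨x', D.X_le s hs hx'⟩) he
  | zero => rw [map_zero]; exact zero_mem _
  | add x y _ _ hx hy => rw [map_add]; exact add_mem hx hy
  | smul c x _ hx => rw [map_smul]; exact Submodule.smul_mem _ c hx

theorem L_T {t : G} (htN : t ∈ D.N) (htB : t ∈ D.B) {f : (G ⧸ D.B) → ℂ} (hf : f ∈ D.L) :
    D.τ t f ∈ D.L := by
  have hpt : ∀ n : D.N, t • D.pt n = D.pt n := fun n => by
    rw [smul_pt, pt_eq_iff]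
    have h3 := D.normal (n : G)⁻¹ (inv_mem n.2) t htN htB
    rw [inv_inv] at h3
    simpa [mul_assoc] using inv_mem h3
  have he : D.τ t D.e = D.e := by
    funext y
    rw [τ_apply]
    by_cases hy : D.IsApt y
    · obtain ⟨n, rfl⟩ := hy
      rw [inv_smul_eq_iff.2 (hpt n).symm]
    · rw [D.e_of_not hy, D.e_of_not]
      rintro ⟨n, hn⟩
      exact hy ⟨n, by rw [← smul_inv_smul t y, ← hn, hpt]⟩
  induction hf using Submodule.span_induction with
  | mem y hy =>
    obtain ⟨⟨u, hu⟩, rfl⟩ := hy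
    rw [← τ_mul, show t * u = t * u * t⁻¹ * t by group, τ_mul, he]
    exact D.mem_L ⟨_, D.normU t htN htB u hu⟩
  | zero => rw [map_zero]; exact zero_mem _
  | add x y _ _ hx hy => rw [map_add]; exact add_mem hx hy
  | smul c x _ hx => rw [map_smul]; exact Submodule.smul_mem _ c hx

theorem L_invariant [Finite G] (g : G) {f : (G ⧸ D.B) → ℂ} (hf : f ∈ D.L) : D.τ g f ∈ D.L := by
  let M : Submonoid G :=
    { carrier := {g | ∀ f ∈ D.L, D.τ g f ∈ D.L}
      one_mem' := fun f hf => by simpa using hf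
      mul_mem' := fun {a b} ha hb f hf => by rw [τ_mul]; exact ha _ (hb f hf) }
  have hM : g ∈ M := by
    have hg : g ∈ Subgroup.closure ((D.U : Set G) ∪ D.S ∪ {t | t ∈ D.N ∧ t ∈ D.B}) := by
      rw [D.gen]; trivial
    rw [← Subgroup.mem_toSubmonoid, Subgroup.closure_toSubmonoid_of_finite] at hg
    refine (Submonoid.closure_le (S := M)).2 ?_ hg
    rintro y ((hy | hy) | hy) f hf
    · exact D.L_U hy hf
    · exact D.L_S hy hf
    · exact D.L_T hy.1 hy.2 hf
  exact hM f hf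

variable [Finite G]

/-- the representation on the span -/
noncomputable def ρ : Representation ℂ G D.L where
  toFun g := (D.τ g).restrict (fun _ hf => D.L_invariant g hf)
  map_one' := by ext f x; simp
  map_mul' g h := by ext f x; simp

theorem ρ_coe (g : G) (f : D.L) : ((D.ρ g f : D.L) : (G ⧸ D.B) → ℂ) = D.τ g f := rfl

/-- the values at the opposite points -/
def ev : D.L →ₗ[ℂ] (D.U → ℂ) where
  toFun f v := (f : (G ⧸ D.B) → ℂ) (D.pt ((v : G) * D.n0))
  map_add' _ _ := rfl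
  map_smul' _ _ := rfl

theorem e_opp (v : D.U) :
    (v ≠ 1 → D.e (D.pt ((v : G) * D.n0)) = 0) ∧
      D.e (D.pt D.n0) = ((D.ε ⟨D.n0, D.n0_mem⟩ : ℤ) : ℂ) := by
  refine ⟨fun hv => D.e_of_not ?_, D.e_pt ⟨D.n0, D.n0_mem⟩⟩
  rintro ⟨n, hn⟩
  rw [pt_eq_iff, ← mul_assoc] at hn
  exact hv (Subtype.ext (D.opp v v.2 n n.2 hn))

open Classical in
theorem ev_mem (u : D.U) : D.ev ⟨_, D.mem_L u⟩ =
    ((D.ε ⟨D.n0, D.n0_mem⟩ : ℤ) : ℂ) • (Pi.single u 1 : D.U → ℂ) := by
  classical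
  funext v
  show D.τ (u : G) D.e (D.pt ((v : G) * D.n0)) = _
  rw [τ_apply, smul_pt, ← mul_assoc]
  have := D.e_opp (u⁻¹ * v)
  simp only [Subgroup.coe_mul, Subgroup.coe_inv] at this
  rcases eq_or_ne v u with rfl | hv
  · simp [this.2]
  · rw [this.1 (fun e => hv (inv_mul_eq_one.1 e).symm)]
    simp [hv]

theorem ev_bijective : Function.Bijective D.ev := by
  classical
  letI := Fintype.ofFinite D.U
  set c : ℂ := ((D.ε ⟨D.n0, D.n0_mem⟩ : ℤ) : ℂ) with hc
  have hc0 : c ≠ 0 := by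
    rcases Int.units_eq_one_or (D.ε ⟨D.n0, D.n0_mem⟩) with e | e <;> simp [hc, e]
  let back : (D.U → ℂ) →ₗ[ℂ] D.L :=
    Fintype.linearCombination ℂ fun u : D.U => c⁻¹ • (⟨_, D.mem_L u⟩ : D.L)
  have h1 : ∀ a, D.ev (back a) = a := by
    intro a
    simp only [back, Fintype.linearCombination_apply, map_sum, map_smul, D.ev_mem, smul_smul,
      ← hc, inv_mul_cancel₀ hc0, one_smul]
    funext v
    simp [Finset.sum_apply, Pi.single_apply, hc0]
  have h2 : Function.Surjective back := by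
    rw [← LinearMap.range_eq_top, eq_top_iff]
    have htop : (⊤ : Submodule ℂ D.L) =
        Submodule.span ℂ (Set.range fun u : D.U => (⟨_, D.mem_L u⟩ : D.L)) := by
      apply Submodule.map_injective_of_injective D.L.injective_subtype
      rw [Submodule.map_subtype_top, Submodule.map_span, ← Set.range_comp]
      rfl
    rw [htop, Submodule.span_le]
    rintro _ ⟨u, rfl⟩
    refine ⟨c • Pi.single u 1, ?_⟩
    rw [map_smul, Fintype.linearCombination_apply_single, smul_smul, smul_smul, mul_one,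
      mul_inv_cancel₀ hc0, one_smul]
  refine ⟨fun a b hab => ?_, fun a => ⟨_, h1 a⟩⟩
  obtain ⟨a', rfl⟩ := h2 a
  obtain ⟨b', rfl⟩ := h2 b
  rw [h1, h1] at hab
  rw [hab]

/-- the coordinates -/
noncomputable def coord : D.L ≃ₗ[ℂ] (D.U → ℂ) := LinearEquiv.ofBijective D.ev D.ev_bijective

instance instFD : FiniteDimensional ℂ D.L := by infer_instance

theorem char_one : D.ρ.character 1 = (Nat.card D.U : ℂ) := by
  letI := Fintype.ofFinite D.U
  rw [Representation.char_one, D.coord.finrank_eq, Module.finrank_fintype_fun_eq_card,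
    Nat.card_eq_fintype_card]

theorem char_U {u : G} (hu : u ∈ D.U) (hu1 : u ≠ 1) : D.ρ.character u = 0 := by
  classical
  letI := Fintype.ofFinite D.U
  rw [Representation.character, ← LinearMap.trace_conj' (D.ρ u) D.coord,
    LinearMap.trace_eq_matrix_trace ℂ (Pi.basisFun ℂ D.U), Matrix.trace]
  refine Finset.sum_eq_zero fun v _ => ?_
  rw [Matrix.diag_apply, LinearMap.toMatrix_apply, Pi.basisFun_repr, Pi.basisFun_apply,
    LinearEquiv.conj_apply_apply]
  show D.τ u ((D.coord.symm (Pi.single v 1) : D.L) : (G ⧸ D.B) → ℂ) (D.pt ((v : G) * D.n0)) = 0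
  rw [τ_apply, smul_pt, ← mul_assoc]
  have h := congrFun (D.coord.apply_symm_apply (Pi.single v (1 : ℂ))) (⟨u, hu⟩⁻¹ * v)
  rw [Pi.single_eq_of_ne] at h
  · exact h
  · intro e
    rw [mul_eq_right, inv_eq_one] at e
    exact hu1 (congrArg Subtype.val e)

/-- the vector fixed by `U` -/
noncomputable def v0 : (G ⧸ D.B) → ℂ :=
  letI := Fintype.ofFinite D.U
  ∑ u : D.U, D.τ (u : G) D.e

theorem e_one : D.e (D.pt 1) = 1 := by
  have := D.e_pt 1
  simpa using this

theorem v0_one : D.v0 (D.pt 1) = (Nat.card D.U : ℂ) := by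
  letI := Fintype.ofFinite D.U
  rw [v0, Finset.sum_apply, Finset.sum_congr rfl (g := fun _ => (1 : ℂ))]
  · simp [Nat.card_eq_fintype_card]
  · intro u _
    rw [τ_apply, smul_pt, mul_one]
    have : D.pt (u : G)⁻¹ = D.pt 1 := D.pt_eq_iff.2 (by simpa using D.U_le u.2)
    rw [this, D.e_one]

theorem v0_mem : D.v0 ∈ D.L := by
  rw [v0]; exact Submodule.sum_mem _ fun u _ => D.mem_L u

theorem τ_v0 {u : G} (hu : u ∈ D.U) : D.τ u D.v0 = D.v0 := by
  letI := Fintype.ofFinite D.U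
  unfold v0
  rw [map_sum (D.τ u)]
  simp only [← τ_mul]
  exact Fintype.sum_bijective (fun w : D.U => ⟨u, hu⟩ * w) (Group.mulLeft_bijective _) _ _
    fun w => rfl

/-- a fixed vector in the span is a multiple of the standard one -/
theorem fixed_eq {f : (G ⧸ D.B) → ℂ} (hf : f ∈ D.L) (h : ∀ u ∈ D.U, D.τ u f = f) :
    ∃ c : ℂ, f = c • D.v0 := by
  classical
  letI := Fintype.ofFinite D.U
  have hv : ∀ u ∈ D.U, D.τ u D.v0 = D.v0 := fun u hu => D.τ_v0 hu
  have key : ∀ g : (G ⧸ D.B) → ℂ, ∀ hg : g ∈ D.L, (∀ u ∈ D.U, D.τ u g = g) →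
      D.ev ⟨g, hg⟩ = fun _ => g (D.pt D.n0) := by
    intro g hg hfix
    funext v
    show g (D.pt ((v : G) * D.n0)) = g (D.pt D.n0)
    conv_lhs => rw [← hfix v v.2]
    rw [τ_apply, smul_pt, inv_mul_cancel_left]
  have hne : D.v0 (D.pt D.n0) ≠ 0 := by
    intro e
    have h0 : D.ev ⟨D.v0, D.v0_mem⟩ = 0 := by rw [key _ D.v0_mem hv, e]; rfl
    have := congrArg Subtype.val (D.ev_bijective.1 (h0.trans (map_zero D.ev).symm))
    have := congrFun this (D.pt 1)
    change D.v0 (D.pt 1) = 0 at this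
    rw [D.v0_one] at this
    exact Nat.cast_ne_zero.2 Nat.card_pos.ne' this
  refine ⟨f (D.pt D.n0) / D.v0 (D.pt D.n0), ?_⟩
  have hc : (f (D.pt D.n0) / D.v0 (D.pt D.n0)) • D.v0 ∈ D.L := Submodule.smul_mem _ _ D.v0_mem
  refine congrArg Subtype.val (D.ev_bijective.1 (a₁ := ⟨f, hf⟩) (a₂ := ⟨_, hc⟩) ?_)
  rw [key f hf h, key _ hc (fun u hu => by rw [map_smul, hv u hu])]
  funext v
  rw [Pi.smul_apply, smul_eq_mul, div_mul_cancel₀ _ hne]

/-- every invariant subspace contains the fixed vector -/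
theorem v0_mem_invariant {W : Submodule ℂ ((G ⧸ D.B) → ℂ)} (hW : W ≤ D.L)
    (hinv : ∀ g : G, ∀ f ∈ W, D.τ g f ∈ W) (hne : W ≠ ⊥) : D.v0 ∈ W := by
  classical
  haveI := Fintype.ofFinite D.B
  obtain ⟨f, hf, hf0⟩ := Submodule.exists_mem_ne_zero_of_ne_bot hne
  obtain ⟨y, hy⟩ := Function.ne_iff.1 hf0
  obtain ⟨g, rfl⟩ := QuotientGroup.mk_surjective y
  set f1 := D.τ g⁻¹ f with hf1
  have hf11 : f1 (D.pt 1) ≠ 0 := by
    rw [hf1, τ_apply, inv_inv, smul_pt, mul_one]; exact hy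
  set f2 := ∑ b : D.B, D.τ (b : G) f1 with hf2
  have hf2W : f2 ∈ W := Submodule.sum_mem _ fun b _ => hinv _ _ (hinv _ _ hf)
  have hf21 : f2 (D.pt 1) ≠ 0 := by
    rw [hf2, Finset.sum_apply, Finset.sum_eq_card_nsmul (b := f1 (D.pt 1))]
    · rw [nsmul_eq_mul]
      exact mul_ne_zero (Nat.cast_ne_zero.2 (Finset.card_pos.2 ⟨1, Finset.mem_univ _⟩).ne') hf11
    · intro b _
      rw [τ_apply, smul_pt, mul_one]
      congr 1
      exact D.pt_eq_iff.2 (by simpa using b.2)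
  obtain ⟨c, hc⟩ := D.fixed_eq (hW hf2W) (fun u hu => by
    rw [hf2, map_sum]
    simp only [← τ_mul]
    exact Fintype.sum_bijective (fun b : D.B => ⟨u, D.U_le hu⟩ * b) (Group.mulLeft_bijective _)
      _ _ fun b => rfl)
  have hc0 : c ≠ 0 := fun e => hf21 (by rw [hc, e, zero_smul]; rfl)
  have := W.smul_mem c⁻¹ hf2W
  rwa [hc, smul_smul, inv_mul_cancel₀ hc0, one_smul] at this

theorem eq_L_of_invariant {W : Submodule ℂ ((G ⧸ D.B) → ℂ)} (hW : W ≤ D.L)
    (hinv : ∀ g : G, ∀ f ∈ W, D.τ g f ∈ W) (hne : W ≠ ⊥) : W = D.L := by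
  classical
  haveI := Fintype.ofFinite (G ⧸ D.B)
  let ip : ((G ⧸ D.B) → ℂ) → ((G ⧸ D.B) → ℂ) → ℂ := fun f g => ∑ y, f y * conj (g y)
  let bW := Module.finBasis ℂ W
  let Φ : D.L →ₗ[ℂ] (Fin (Module.finrank ℂ W) → ℂ) :=
    { toFun := fun f i => ip f (bW i : W)
      map_add' := fun a b => by
        funext i; simp [ip, add_mul, Finset.sum_add_distrib]
      map_smul' := fun c a => by
        funext i; simp [ip, Finset.mul_sum, mul_assoc] }
  let O : Submodule ℂ ((G ⧸ D.B) → ℂ) :=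
    { carrier := {f | f ∈ D.L ∧ ∀ w ∈ W, ip f w = 0}
      add_mem' := fun {a b} ha hb => ⟨add_mem ha.1 hb.1, fun w hw => by
        have h1 := ha.2 w hw; have h2 := hb.2 w hw
        simp only [ip] at h1 h2
        simp [ip, add_mul, Finset.sum_add_distrib, h1, h2]⟩
      zero_mem' := ⟨zero_mem _, fun w _ => by simp [ip]⟩
      smul_mem' := fun c a ha => ⟨Submodule.smul_mem _ c ha.1, fun w hw => by
        have h1 := ha.2 w hw
        simp only [ip] at h1
        simp [ip, mul_assoc, ← Finset.mul_sum, h1]⟩ }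
  have hO : O = ⊥ := by
    by_contra hO
    have h0 := D.v0_mem_invariant (W := O) (fun f hf => hf.1) (fun g f hf => ⟨D.L_invariant g hf.1, fun w hw => by
      have h1 := hf.2 _ (hinv g⁻¹ w hw)
      rw [← h1]
      show ∑ y, D.τ g f y * conj (w y) = ∑ y, f y * conj (D.τ g⁻¹ w y)
      exact Fintype.sum_equiv (MulAction.toPerm g⁻¹) _ _ fun y => by
        simp [τ_apply, smul_smul]⟩) hO
    have h1 := h0.2 _ (D.v0_mem_invariant hW hinv hne)
    simp only [ip] at h1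
    have h2 : ∑ y, (Complex.normSq (D.v0 y) : ℂ) = 0 := by
      rw [← h1]; exact Finset.sum_congr rfl fun y _ => (Complex.mul_conj _).symm
    rw [← Complex.ofReal_sum, Complex.ofReal_eq_zero,
      Finset.sum_eq_zero_iff_of_nonneg fun y _ => Complex.normSq_nonneg _] at h2
    have h3 := Complex.normSq_eq_zero.1 (h2 (D.pt 1) (Finset.mem_univ _))
    rw [D.v0_one] at h3
    exact Nat.cast_ne_zero.2 Nat.card_pos.ne' h3
  have hinj : Function.Injective Φ := by
    rw [← LinearMap.ker_eq_bot, LinearMap.ker_eq_bot']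
    intro f hf
    refine Subtype.ext ?_
    have : (f : (G ⧸ D.B) → ℂ) ∈ O := by
      refine ⟨f.2, fun w hw => ?_⟩
      have hw' := bW.sum_repr ⟨w, hw⟩
      have hwc := congrArg Subtype.val hw'
      simp only [Submodule.coe_sum, Submodule.coe_smul] at hwc
      have hi : ∀ i, ip f (bW i : W) = 0 := fun i => congrFun hf i
      simp only [ip] at hi ⊢
      rw [← hwc]
      simp only [Finset.sum_apply, Pi.smul_apply, smul_eq_mul, map_sum, map_mul, Finset.mul_sum]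
      rw [Finset.sum_comm]
      refine Finset.sum_eq_zero fun i _ => ?_
      rw [Finset.sum_congr rfl (g := fun y => conj (bW.repr ⟨w, hw⟩ i) *
        ((f : (G ⧸ D.B) → ℂ) y * conj (((bW i : W) : (G ⧸ D.B) → ℂ) y))) (fun y _ => by ring),
        ← Finset.mul_sum, hi, mul_zero]
    rwa [hO, Submodule.mem_bot] at this
  refine Submodule.eq_of_le_of_finrank_le hW ?_
  have := LinearMap.finrank_le_finrank_of_injective hinj
  rwa [Module.finrank_fintype_fun_eq_card, Fintype.card_fin] at this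

theorem irreducible : D.ρ.IsIrreducible := by
  haveI : Nontrivial (Subrepresentation D.ρ) := by
    refine ⟨⟨⊥, ⊤, fun h => ?_⟩⟩
    have h' : (⊥ : Submodule ℂ D.L) = ⊤ := congrArg Subrepresentation.toSubmodule h
    have : (⟨D.v0, D.v0_mem⟩ : D.L) ∈ (⊥ : Submodule ℂ D.L) := h' ▸ Submodule.mem_top
    rw [Submodule.mem_bot] at this
    have h2 := congrFun (congrArg Subtype.val this) (D.pt 1)
    change D.v0 (D.pt 1) = 0 at h2
    rw [D.v0_one] at h2
    exact Nat.cast_ne_zero.2 Nat.card_pos.ne' h2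
  refine ⟨fun W => ?_⟩
  by_cases hW : W.toSubmodule = ⊥
  · exact Or.inl (Subrepresentation.toSubmodule_injective hW)
  refine Or.inr (Subrepresentation.toSubmodule_injective ?_)
  show W.toSubmodule = ⊤
  have h1 := D.eq_L_of_invariant (W := W.toSubmodule.map D.L.subtype)
    (Submodule.map_subtype_le _ _) (fun g f hf => by
      obtain ⟨f', hf', rfl⟩ := hf
      exact ⟨D.ρ g f', W.apply_mem_toSubmodule g hf', rfl⟩)
    (fun h => hW (by
      apply Submodule.map_injective_of_injective D.L.injective_subtype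
      rw [h, Submodule.map_bot]))
  apply Submodule.map_injective_of_injective D.L.injective_subtype
  rw [h1, Submodule.map_subtype_top]

/-- only `B` normalises `U` -/
theorem mem_B_of_normalizes (hsep : ∀ n ∈ D.N, n ∉ D.B → ∃ u ∈ D.U, ∀ n' ∈ D.N, n'⁻¹ * u * n ∉ D.B)
    {w : G} (hwn : ∀ u ∈ D.U, w⁻¹ * u * w ∈ D.U) : w ∈ D.B := by
  classical
  letI := Fintype.ofFinite D.U
  have hfix : ∀ u ∈ D.U, D.τ u (D.τ w D.v0) = D.τ w D.v0 := by
    intro u hu
    rw [← τ_mul, show u * w = w * (w⁻¹ * u * w) by group, τ_mul]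
    congr 1
    exact D.τ_v0 (hwn u hu)
  obtain ⟨c, hc⟩ := D.fixed_eq (D.L_invariant w D.v0_mem) hfix
  have hU0 : (Nat.card D.U : ℂ) ≠ 0 := Nat.cast_ne_zero.2 Nat.card_pos.ne'
  have hpow : ∀ j : ℕ, D.τ (w ^ j) D.v0 = c ^ j • D.v0 := by
    intro j
    induction j with
    | zero => simp
    | succ j ih => rw [pow_succ, τ_mul, hc, map_smul, ih, smul_smul, pow_succ']
  have hnorm : ‖c‖ = 1 := by
    have h1 := congrFun (hpow (orderOf w)) (D.pt 1)
    rw [pow_orderOf_eq_one, map_one, Pi.smul_apply, smul_eq_mul, D.v0_one] at h1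
    have h2 : c ^ orderOf w = 1 := mul_right_cancel₀ hU0 (h1.symm.trans (by
      rw [one_mul]; exact D.v0_one))
    exact Complex.norm_eq_one_of_pow_eq_one h2 (orderOf_pos w).ne'
  have hval := congrFun hc (D.pt 1)
  rw [τ_apply, smul_pt, mul_one, Pi.smul_apply, smul_eq_mul, D.v0_one] at hval
  have hbound : ∀ u : D.U, D.e ((u : G)⁻¹ • D.pt w⁻¹) ≠ 0 := by
    intro u hu
    have h1 : ‖D.v0 (D.pt w⁻¹)‖ = (Nat.card D.U : ℝ) := by
      rw [hval, norm_mul, hnorm, Complex.norm_natCast, one_mul]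
    have h2 : ‖D.v0 (D.pt w⁻¹)‖ ≤ ((Finset.univ.erase u).card : ℝ) := by
      have hz : D.v0 (D.pt w⁻¹) =
          ∑ z ∈ Finset.univ.erase u, D.e ((z : G)⁻¹ • D.pt w⁻¹) := by
        rw [v0, Finset.sum_apply]
        simp only [τ_apply]
        rw [← Finset.add_sum_erase _ _ (Finset.mem_univ u), hu, zero_add]
      rw [hz]
      refine (norm_sum_le _ _).trans ((Finset.sum_le_card_nsmul _ _ 1
        (fun z _ => D.norm_e_le _)).trans (le_of_eq ?_))
      simp
    rw [h1, Nat.cast_le, Finset.card_erase_of_mem (Finset.mem_univ u), Finset.card_univ,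
      Nat.card_eq_fintype_card] at h2
    have : 0 < Fintype.card D.U := Fintype.card_pos
    omega
  have happ : D.IsApt (D.pt w⁻¹) := by
    by_contra h
    refine hbound 1 ?_
    rw [OneMemClass.coe_one, inv_one, one_smul, D.e_of_not h]
  obtain ⟨n, hn⟩ := happ
  by_contra hwB
  ·
    have hnB : (n : G) ∉ D.B := by
      intro h
      rw [pt_eq_iff] at hn
      exact hwB (inv_mem_iff.1 (by simpa using mul_mem h hn))
    obtain ⟨u, hu, hu'⟩ := hsep n n.2 hnB
    refine hbound ⟨u, hu⟩⁻¹ (D.e_of_not ?_)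
    rintro ⟨n', hn'⟩
    simp only [Subgroup.coe_inv, inv_inv, ← hn, smul_pt, pt_eq_iff, ← mul_assoc] at hn'
    exact hu' n' n'.2 hn'

/-- `U` is a Sylow subgroup -/
theorem U_sylow {p : ℕ} [Fact p.Prime] (hU : IsPGroup p D.U)
    (hpB : ∀ g ∈ D.B, (∃ j : ℕ, g ^ p ^ j = 1) → g ∈ D.U)
    (hsep : ∀ n ∈ D.N, n ∉ D.B → ∃ u ∈ D.U, ∀ n' ∈ D.N, n'⁻¹ * u * n ∉ D.B) :
    ∃ P : Sylow p G, (P : Subgroup G) = D.U := by
  classical
  letI := Fintype.ofFinite D.U
  obtain ⟨P, hP⟩ := hU.exists_le_sylow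
  refine ⟨P, le_antisymm (fun g hg => ?_) hP⟩
  by_contra hgU
  haveI hnilp : Group.IsNilpotent (P : Subgroup G) := P.isPGroup'.isNilpotent
  have hlt : D.U.subgroupOf P < ⊤ := lt_top_iff_ne_top.2 fun h => hgU
    (Subgroup.subgroupOf_eq_top.1 h hg)
  have hN := normalizerCondition_of_isNilpotent (D.U.subgroupOf P) hlt
  obtain ⟨⟨w, hwP⟩, hwN, hwU⟩ := SetLike.exists_of_lt hN
  rw [Subgroup.mem_subgroupOf] at hwU
  have hwn : ∀ u ∈ D.U, w⁻¹ * u * w ∈ D.U := by
    intro u hu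
    have h1 := (Subgroup.mem_normalizer_iff.1 (inv_mem hwN) ⟨u, hP hu⟩).1
      (by rw [Subgroup.mem_subgroupOf]; exact hu)
    simpa [Subgroup.mem_subgroupOf] using h1
  apply hwU
  refine hpB w (D.mem_B_of_normalizes hsep hwn) ?_
  obtain ⟨j, hj⟩ := P.isPGroup' ⟨w, hwP⟩
  exact ⟨j, by simpa using congrArg Subtype.val hj⟩

/-- the character of a quotient by a kernel inside `B` -/
theorem exists_steinberg {p : ℕ} [Fact p.Prime] (hU : IsPGroup p D.U)
    (hpB : ∀ g ∈ D.B, (∃ j : ℕ, g ^ p ^ j = 1) → g ∈ D.U)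
    (hsep : ∀ n ∈ D.N, n ∉ D.B → ∃ u ∈ D.U, ∀ n' ∈ D.N, n'⁻¹ * u * n ∉ D.B)
    {Q : Type*} [Group Q] (π : G →* Q) (hπ : Function.Surjective π)
    (hcen : π.ker ≤ Subgroup.center G) :
    ∃ χ : Q → ℂ, Cfsg.IsIrrCharacter Q χ ∧
      ∀ P : Sylow p Q, χ 1 = Nat.card P ∧ ∀ x : Q, x ∈ P → x ≠ 1 → χ x = 0 := by
  classical
  haveI : Finite Q := Finite.of_surjective π hπ
  have hker : π.ker ≤ D.B := fun z hz => D.mem_B_of_normalizes hsep fun u hu => by
    rw [mul_assoc, Subgroup.mem_center_iff.1 (hcen hz) u, inv_mul_cancel_left]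
    exact hu
  have hρker : π.ker ≤ D.ρ.ker := by
    intro z hz
    refine LinearMap.ext fun f => Subtype.ext (funext fun y => ?_)
    show (f : (G ⧸ D.B) → ℂ) (z⁻¹ • y) = (f : (G ⧸ D.B) → ℂ) y
    refine congrArg (f : (G ⧸ D.B) → ℂ) ?_
    obtain ⟨g, rfl⟩ := QuotientGroup.mk_surjective y
    show D.pt (z⁻¹ * g) = D.pt g
    rw [pt_eq_iff]
    have hn : (π.ker).Normal := MonoidHom.normal_ker π
    have := hker (hn.conj_mem z hz g⁻¹)
    rw [inv_inv] at this
    simpa [mul_assoc] using this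
  have hkU : ∀ z ∈ π.ker, z ∈ D.U → z = 1 := fun z hz hzU => by
    by_contra hz1
    have h0 := D.char_U hzU hz1
    rw [Representation.character, show D.ρ z = D.ρ 1 from (hρker hz).trans (map_one D.ρ).symm] at h0
    exact Nat.cast_ne_zero.2 Nat.card_pos.ne' (D.char_one.symm.trans h0)
  have heq : ∀ a b : G, π a = π b → D.ρ a = D.ρ b := fun a b h => by
    have hz : D.ρ (a⁻¹ * b) = 1 := hρker (by rw [MonoidHom.mem_ker]; simp [h])
    rw [show b = a * (a⁻¹ * b) by group, map_mul, hz, mul_one]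
  let ρQ : Representation ℂ Q D.L :=
    { toFun := fun x => D.ρ (Function.surjInv hπ x)
      map_one' := (heq _ 1 (by rw [Function.surjInv_eq hπ, map_one])).trans (map_one D.ρ)
      map_mul' := fun x y => (heq _ (Function.surjInv hπ x * Function.surjInv hπ y) (by
        rw [map_mul, Function.surjInv_eq hπ, Function.surjInv_eq hπ,
          Function.surjInv_eq hπ])).trans (map_mul D.ρ _ _) }
  have hρQ : ∀ g, ρQ (π g) = D.ρ g := fun g => heq _ g (Function.surjInv_eq hπ _)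
  haveI : ρQ.IsIrreducible := by
    haveI := D.irreducible
    let toG : Subrepresentation ρQ → Subrepresentation D.ρ := fun W =>
      ⟨W.toSubmodule, fun g v hv => by rw [← hρQ]; exact W.apply_mem_toSubmodule (π g) hv⟩
    haveI : Nontrivial (Subrepresentation ρQ) := by
      obtain ⟨a, b, hab⟩ := exists_pair_ne (Subrepresentation D.ρ)
      let fromG : Subrepresentation D.ρ → Subrepresentation ρQ := fun W =>
        ⟨W.toSubmodule, fun x v hv => by
          obtain ⟨g, rfl⟩ := hπ x; rw [hρQ]; exact W.apply_mem_toSubmodule g hv⟩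
      exact ⟨fromG a, fromG b, fun h => hab (Subrepresentation.toSubmodule_injective
        (congrArg (fun W : Subrepresentation ρQ => W.toSubmodule) h :))⟩
    refine ⟨fun W => ?_⟩
    rcases IsSimpleOrder.eq_bot_or_eq_top (toG W) with h | h
    · refine Or.inl (Subrepresentation.toSubmodule_injective ?_)
      exact (congrArg Subrepresentation.toSubmodule h :)
    · refine Or.inr (Subrepresentation.toSubmodule_injective ?_)
      exact (congrArg Subrepresentation.toSubmodule h :)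
  obtain ⟨χ, hχ⟩ := CfsgLib.CharBasics.exists_irr ρQ
  refine ⟨χ, χ.2, fun P => ?_⟩
  have hval : ∀ g, (χ : Q → ℂ) (π g) = D.ρ.character g := fun g => by
    rw [hχ, Representation.character, Representation.character, hρQ]
  obtain ⟨P₀, hP₀⟩ := D.U_sylow hU hpB hsep
  obtain ⟨c, hc⟩ := MulAction.exists_smul_eq Q (P₀.mapSurjective hπ) P
  have hcard : Nat.card (P : Subgroup Q) = Nat.card D.U := by
    rw [← Nat.card_congr (Sylow.equiv (P₀.mapSurjective hπ) P).toEquiv, Sylow.coe_mapSurjective,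
      hP₀]
    refine (Nat.card_congr (Equiv.ofBijective
      (fun y : D.U => (⟨π y, Subgroup.mem_map_of_mem _ y.2⟩ : D.U.map π)) ⟨fun a b h => ?_, ?_⟩)).symm
    · have h' : π a = π b := congrArg Subtype.val h
      exact inv_mul_eq_one.1 (Subtype.ext (hkU _
        (by rw [MonoidHom.mem_ker]; simp [h']) (a⁻¹ * b).2))
    · rintro ⟨_, y, hy, rfl⟩
      exact ⟨⟨y, hy⟩, rfl⟩
  refine ⟨?_, fun x hxP hx1 => ?_⟩
  · rw [← map_one π, hval, D.char_one, ← hcard]
  · rw [← hc] at hxP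
    change x ∈ ((c • P₀.mapSurjective hπ : Sylow p Q) : Subgroup Q) at hxP
    rw [Sylow.coe_subgroup_smul, Subgroup.mem_pointwise_smul_iff_inv_smul_mem,
      Sylow.coe_mapSurjective, hP₀] at hxP
    obtain ⟨u, hu, hux⟩ := hxP
    have hx : x = c * π u * c⁻¹ := by
      rw [hux]; simp [MulAut.smul_def, mul_assoc]
    have hu1 : u ≠ 1 := fun e => hx1 (by rw [hx, e]; simp)
    obtain ⟨g, rfl⟩ := hπ c
    rw [hx, ← map_inv, ← map_mul, ← map_mul, hval, Representation.char_conj]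
    exact D.char_U hu hu1

end Apt

end CfsgLib.StChar
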