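import Cfsg.Agent.StChar.Basic

/-!
Apartment data for a matrix group whose Borel subgroup is upper triangular for a partial order on
the positions of the basis.
-/

set_option autoImplicit false
set_option maxHeartbeats 1000000

namespace CfsgLib.StChar

/-- a matrix group with positions of the basis vectors -/
structure Layout (G F ι P : Type*) [Group G] [Field F] [Fintype ι] [DecidableEq ι] where
  mat : G →* Matrix ι ι F
  inj : Function.Injective mat
  pos : ι → P
  surj : Function.Surjective pos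

namespace Layout

variable {G F ι P : Type*} [Group G] [Field F] [Fintype ι] [DecidableEq ι] (L : Layout G F ι P)

/-- the support of `g - 1` lies in the relation -/
def Supp (R : P → P → Prop) (g : G) : Prop :=
  ∀ i j, (L.mat g - 1) i j ≠ 0 → R (L.pos i) (L.pos j)

theorem supp_one (R : P → P → Prop) : L.Supp R 1 := fun i j h => by simp at h

variable {L}

theorem Supp.mono {R R' : P → P → Prop} {g : G} (h : L.Supp R g) (hRR : ∀ p q, R p q → R' p q) :
    L.Supp R' g := fun i j hij => hRR _ _ (h i j hij)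

theorem Supp.mul {R : P → P → Prop} (hR : ∀ p q r, R p q → R q r → R p r) {g h : G}
    (hg : L.Supp R g) (hh : L.Supp R h) : L.Supp R (g * h) := by
  intro i j hij
  have e : L.mat (g * h) - 1 =
      (L.mat g - 1) * (L.mat h - 1) + (L.mat g - 1) + (L.mat h - 1) := by
    rw [map_mul]; noncomm_ring
  by_contra hne
  apply hij
  have a1 : ((L.mat g - 1) * (L.mat h - 1)) i j = 0 := by
    rw [Matrix.mul_apply]
    refine Finset.sum_eq_zero fun l _ => ?_
    by_contra hc
    exact hne (hR _ _ _ (hg i l (left_ne_zero_of_mul hc)) (hh l j (right_ne_zero_of_mul hc)))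
  have a2 : (L.mat g - 1) i j = 0 := by_contra fun hc => hne (hg i j hc)
  have a3 : (L.mat h - 1) i j = 0 := by_contra fun hc => hne (hh i j hc)
  simp only [e, Matrix.add_apply, a1, a2, a3, add_zero]

theorem Supp.pow {R : P → P → Prop} (hR : ∀ p q r, R p q → R q r → R p r) {g : G}
    (hg : L.Supp R g) (k : ℕ) : L.Supp R (g ^ k) := by
  induction k with
  | zero => rw [pow_zero]; exact L.supp_one R
  | succ k ih => rw [pow_succ]; exact ih.mul hR hg

variable (L)

/-- the subgroup of a transitive relation -/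
def Sub [Finite G] (R : P → P → Prop) (hR : ∀ p q r, R p q → R q r → R p r) : Subgroup G where
  carrier := {g | L.Supp R g}
  one_mem' := L.supp_one R
  mul_mem' := fun hg hh => Supp.mul hR hg hh
  inv_mem' := fun {g} hg => by
    have h : g⁻¹ = g ^ (orderOf g - 1) := by
      rw [inv_eq_iff_mul_eq_one, ← pow_succ', Nat.sub_add_cancel (orderOf_pos g),
        pow_orderOf_eq_one]
    rw [Set.mem_setOf_eq, h]
    exact Supp.pow hR hg _

/-- monomial for this permutation of the positions -/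
def Mono (π : Equiv.Perm P) (g : G) : Prop :=
  ∀ i j, L.mat g i j ≠ 0 → L.pos i = π (L.pos j)

theorem exists_entry (g : G) (j : ι) : ∃ i, L.mat g i j ≠ 0 := by
  by_contra h
  push Not at h
  have e : (L.mat g⁻¹ * L.mat g) j j = 1 := by rw [← map_mul, inv_mul_cancel, map_one]; simp
  rw [Matrix.mul_apply, Finset.sum_eq_zero fun l _ => by rw [h l, mul_zero]] at e
  exact zero_ne_one e

theorem mono_one : L.Mono 1 1 := fun i j h => by
  rw [map_one] at h
  rcases eq_or_ne i j with rfl | hij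
  · rfl
  · exact absurd (Matrix.one_apply_ne hij) h

variable {L}

theorem Mono.mul {π π' : Equiv.Perm P} {g h : G} (hg : L.Mono π g) (hh : L.Mono π' h) :
    L.Mono (π * π') (g * h) := by
  intro i j hij
  rw [map_mul, Matrix.mul_apply] at hij
  obtain ⟨l, -, hl⟩ := Finset.exists_ne_zero_of_sum_ne_zero hij
  rw [hg i l (left_ne_zero_of_mul hl), hh l j (right_ne_zero_of_mul hl)]
  rfl

theorem Mono.unique {π π' : Equiv.Perm P} {g : G} (h : L.Mono π g) (h' : L.Mono π' g) : π = π' := by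
  refine Equiv.ext fun p => ?_
  obtain ⟨j, rfl⟩ := L.surj p
  obtain ⟨i, hi⟩ := L.exists_entry g j
  rw [← h i j hi, ← h' i j hi]

theorem Mono.pow {π : Equiv.Perm P} {g : G} (h : L.Mono π g) (k : ℕ) : L.Mono (π ^ k) (g ^ k) := by
  induction k with
  | zero => simpa using L.mono_one
  | succ k ih => rw [pow_succ, pow_succ]; exact ih.mul h

theorem Mono.inv [Finite G] {π : Equiv.Perm P} {g : G} (h : L.Mono π g) : L.Mono π⁻¹ g⁻¹ := by
  have hg : g⁻¹ = g ^ (orderOf g - 1) := by
    rw [inv_eq_iff_mul_eq_one, ← pow_succ', Nat.sub_add_cancel (orderOf_pos g),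
      pow_orderOf_eq_one]
  have h1 := h.pow (orderOf g - 1)
  rw [← hg] at h1
  have h2 := h1.mul h
  rw [inv_mul_cancel] at h2
  rwa [inv_eq_of_mul_eq_one_left (h2.unique L.mono_one)]

/-- conjugation maps supports -/
theorem Mono.conj [Finite G] {π : Equiv.Perm P} {n g : G} (hn : L.Mono π n) {R : P → P → Prop}
    (hg : L.Supp R g) : L.Supp (fun p q => R (π⁻¹ p) (π⁻¹ q)) (n * g * n⁻¹) := by
  intro i j hij
  have e : L.mat (n * g * n⁻¹) - 1 = L.mat n * (L.mat g - 1) * L.mat n⁻¹ := by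
    rw [mul_sub, mul_one, sub_mul, ← map_mul, ← map_mul, ← map_mul, mul_inv_cancel, map_one]
  rw [e, Matrix.mul_apply] at hij
  obtain ⟨r, -, hr⟩ := Finset.exists_ne_zero_of_sum_ne_zero hij
  rw [Matrix.mul_apply] at hr
  obtain ⟨l, -, hl⟩ := Finset.exists_ne_zero_of_sum_ne_zero (left_ne_zero_of_mul hr)
  have a1 := hn i l (left_ne_zero_of_mul hl)
  have a2 := hg l r (right_ne_zero_of_mul hl)
  have a3 := hn.inv r j (right_ne_zero_of_mul hr)
  show R (π⁻¹ (L.pos i)) (π⁻¹ (L.pos j))
  rw [a1, ← a3]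
  simpa using a2

/-- diagonal entries of a strictly supported element -/
theorem Supp.diag [PartialOrder P] {g : G} (h : L.Supp (· < ·) g) (i : ι) : L.mat g i i = 1 := by
  by_contra hne
  exact lt_irrefl _ (h i i (by simpa [sub_eq_zero] using hne))

/-- entries of an upper element -/
theorem Supp.entry [PartialOrder P] {g : G} (h : L.Supp (· ≤ ·) g) {i j : ι}
    (hij : L.mat g i j ≠ 0) : L.pos i ≤ L.pos j := by
  rcases eq_or_ne i j with rfl | hne
  · exact le_refl _
  · exact h i j (by simpa [Matrix.one_apply_ne hne] using hij)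

end Layout

theorem perm_le_eq_one {P : Type*} [PartialOrder P] [Finite P] (π : Equiv.Perm P)
    (h : ∀ p, π p ≤ p) : π = 1 := by
  refine Equiv.ext fun p => ?_
  have key : ∀ k : ℕ, (π ^ (k + 1)) p ≤ π p := by
    intro k
    induction k with
    | zero => simp
    | succ k ih => rw [pow_succ', Equiv.Perm.mul_apply]; exact (h _).trans ih
  have := key (orderOf π - 1)
  rw [Nat.sub_add_cancel (orderOf_pos π), pow_orderOf_eq_one] at this
  exact le_antisymm (h p) this

/-- the data turning a layout into an apartment -/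
structure Sys (G F ι P : Type*) [Group G] [Field F] [Fintype ι] [DecidableEq ι] [PartialOrder P]
    extends Layout G F ι P where
  W : Subgroup (Equiv.Perm P)
  ε : W →* ℤˣ
  π0 : Equiv.Perm P
  n0 : G
  S : Set G
  σ : G → Equiv.Perm P
  R : G → P → P → Prop
  π0_mem : π0 ∈ W
  n0_mono : toLayout.Mono π0 n0
  anti : ∀ p q, p ≤ q → π0 q ≤ π0 p
  S_mono : ∀ s ∈ S, toLayout.Mono (σ s) s ∧ σ s * σ s = 1 ∧ ∃ h : σ s ∈ W, ε ⟨σ s, h⟩ = -1
  R_trans : ∀ s p q r, R s p q → R s q r → R s p r
  R_lt : ∀ s ∈ S, ∀ p q, R s p q → p < q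
  R_rev : ∀ s ∈ S, ∀ p q, R s p q → R s (σ s q) (σ s p)
  orient : ∀ s ∈ S, ∀ π ∈ W, (∀ p q, R s p q → π p < π q) ∨ (∀ p q, R s p q → π q < π p)
  sepW : ∀ π ∈ W, (∀ s ∈ S, ∀ p q, R s p q → π p < π q) → π = 1
  X_nt : ∀ s ∈ S, ∃ g, g ≠ 1 ∧ toLayout.Supp (R s) g
  factor : ∀ s ∈ S, ∀ u, toLayout.Supp (· < ·) u →
    ∃ x, toLayout.Supp (R s) x ∧ toLayout.Supp (fun p q => p < q ∧ σ s p < σ s q) (u * x⁻¹)
  rank1 : ∀ s ∈ S, ∀ x, toLayout.Supp (R s) x → x ≠ 1 → ∃ x' h x'',
    toLayout.Supp (R s) x' ∧ toLayout.Supp (R s) x'' ∧ toLayout.Mono 1 h ∧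
      s * x * s = x' * s * h * x''
  gen : Subgroup.closure ({g | toLayout.Supp (· < ·) g} ∪ S ∪ {g | toLayout.Mono 1 g}) = ⊤

namespace Sys

variable {G F ι P : Type*} [Group G] [Field F] [Fintype ι] [DecidableEq ι] [PartialOrder P]
  [Finite G] [Finite P] (D : Sys G F ι P)

/-- the monomial subgroup -/
def NN : Subgroup G where
  carrier := {g | ∃ π ∈ D.W, D.Mono π g}
  one_mem' := ⟨1, one_mem _, D.mono_one⟩
  mul_mem' := fun ⟨π, hπ, h⟩ ⟨π', hπ', h'⟩ => ⟨π * π', mul_mem hπ hπ', h.mul h'⟩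
  inv_mem' := fun ⟨π, hπ, h⟩ => ⟨π⁻¹, inv_mem hπ, h.inv⟩

/-- the permutation of a monomial element -/
noncomputable def perm (n : D.NN) : D.W := ⟨n.2.choose, n.2.choose_spec.1⟩

theorem perm_spec (n : D.NN) : D.Mono (D.perm n : Equiv.Perm P) n := n.2.choose_spec.2

theorem perm_eq {n : D.NN} {π : Equiv.Perm P} (h : D.Mono π n) : (D.perm n : Equiv.Perm P) = π :=
  (D.perm_spec n).unique h

theorem eq_one_of_mono_upper {π : Equiv.Perm P} {g : G} (h : D.Mono π g)
    (hg : D.Supp (· ≤ ·) g) : π = 1 := by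
  refine perm_le_eq_one π fun p => ?_
  obtain ⟨j, rfl⟩ := D.surj p
  obtain ⟨i, hi⟩ := D.exists_entry g j
  rw [← h i j hi]
  exact hg.entry hi

theorem upper_of_mono_one {g : G} (h : D.Mono 1 g) : D.Supp (· ≤ ·) g := by
  intro i j hij
  rcases eq_or_ne i j with rfl | hne
  · exact le_refl _
  · exact (h i j (by simpa [Matrix.one_apply_ne hne] using hij)).le

/-- the apartment -/
noncomputable def apt : Apt G where
  B := D.Sub (· ≤ ·) fun _ _ _ => le_trans
  U := D.Sub (· < ·) fun _ _ _ => lt_trans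
  N := D.NN
  ε :=
    { toFun := fun n => D.ε (D.perm n)
      map_one' := by
        rw [show D.perm 1 = 1 from Subtype.ext (D.perm_eq (n := 1) D.mono_one), map_one]
      map_mul' := fun a b => by
        rw [show D.perm (a * b) = D.perm a * D.perm b from
          Subtype.ext (D.perm_eq (n := a * b) ((D.perm_spec a).mul (D.perm_spec b))), map_mul] }
  S := D.S
  X := fun s => D.Sub (D.R s) (D.R_trans s)
  n0 := D.n0
  U_le := fun _ hg => Layout.Supp.mono hg fun _ _ h => le_of_lt h
  S_sub := fun s hs => by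
    obtain ⟨h1, -, h2, -⟩ := D.S_mono s hs
    exact ⟨_, h2, h1⟩
  n0_mem := ⟨D.π0, D.π0_mem, D.n0_mono⟩
  gen := by
    refine eq_top_iff.2 (D.gen.ge.trans (Subgroup.closure_mono ?_))
    rintro g ((h | h) | h)
    · exact Or.inl (Or.inl h)
    · exact Or.inl (Or.inr h)
    · exact Or.inr ⟨⟨1, one_mem _, h⟩, D.upper_of_mono_one h⟩
  normU := fun t ⟨π, _, h⟩ htB u hu => by
    obtain rfl := D.eq_one_of_mono_upper h htB
    exact Layout.Supp.mono (h.conj hu) fun _ _ hpq => by simpa using hpq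
  normal := fun n ⟨π, _, hn⟩ t ⟨π', _, ht⟩ htB => by
    obtain rfl := D.eq_one_of_mono_upper ht htB
    have := (hn.mul ht).mul hn.inv
    rw [mul_one, mul_inv_cancel] at this
    exact D.upper_of_mono_one this
  eps_B := fun n hn => by
    show D.ε (D.perm n) = 1
    rw [show D.perm n = 1 from Subtype.ext (D.eq_one_of_mono_upper (D.perm_spec n) hn), map_one]
  eps_S := fun n hn => by
    show D.ε (D.perm n) = -1
    obtain ⟨h1, -, h2, h3⟩ := D.S_mono n hn
    rw [show D.perm n = ⟨_, h2⟩ from Subtype.ext (D.perm_eq h1), h3]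
  sq := fun s hs => by
    obtain ⟨h1, h2, -, -⟩ := D.S_mono s hs
    have := h1.mul h1
    rw [h2] at this
    exact D.upper_of_mono_one this
  X_le := fun s hs _ hg => Layout.Supp.mono hg (D.R_lt s hs)
  X_nt := fun s hs => by
    obtain ⟨g, h1, h2⟩ := D.X_nt s hs
    exact ⟨g, h2, h1⟩
  factor := fun s hs u hu => by
    obtain ⟨x, hx, hux⟩ := D.factor s hs u hu
    obtain ⟨h1, h2, -, -⟩ := D.S_mono s hs
    refine ⟨u * x⁻¹, Layout.Supp.mono hux fun _ _ h => h.1, x, hx, ?_, by group⟩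
    refine Layout.Supp.mono (h1.conj hux) fun p q h => ?_
    rw [inv_eq_of_mul_eq_one_left h2] at h
    have := h.2
    rwa [← Equiv.Perm.mul_apply, ← Equiv.Perm.mul_apply, h2] at this
  dich := fun s hs n ⟨π, hπ, hn⟩ => by
    obtain ⟨h1, h2, -, -⟩ := D.S_mono s hs
    have hn' := hn.inv
    rcases D.orient s hs π⁻¹ (inv_mem hπ) with h | h
    · refine Or.inl fun x hx => ?_
      have := hn'.conj hx
      rw [inv_inv, inv_inv] at this
      refine Layout.Supp.mono this fun p q hpq => ?_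
      simpa using (h _ _ hpq).le
    · refine Or.inr fun x hx => ?_
      have := (hn'.mul h1.inv).conj hx
      rw [mul_inv_rev, inv_inv, inv_inv, mul_inv_rev, inv_inv, inv_inv] at this
      rw [mul_inv_rev]
      refine Layout.Supp.mono this fun p q hpq => ?_
      have h3 := h _ _ (D.R_rev s hs _ _ hpq)
      rw [← Equiv.Perm.mul_apply (D.σ s), ← Equiv.Perm.mul_apply (D.σ s), ← mul_assoc, h2] at h3
      simpa using h3.le
  rank1 := fun s hs x hx hx1 => by
    obtain ⟨x', h, x'', h1, h2, h3, e⟩ := D.rank1 s hs x hx hx1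
    exact ⟨x', h1, h, ⟨1, one_mem _, h3⟩, x'', h2, D.upper_of_mono_one h3, e⟩
  opp := fun u hu n ⟨π, _, hn⟩ hb => by
    set b := n⁻¹ * u * D.n0 with hbd
    have hu' : u = n * b * D.n0⁻¹ := by rw [hbd]; group
    have key : ∀ i j, D.mat u i j ≠ 0 → π⁻¹ (D.pos i) ≤ D.π0⁻¹⁻¹⁻¹ (D.pos j) := by
      intro i j hij
      rw [hu', map_mul, map_mul, Matrix.mul_apply] at hij
      obtain ⟨r, -, hr⟩ := Finset.exists_ne_zero_of_sum_ne_zero hij
      rw [Matrix.mul_apply] at hr
      obtain ⟨l, -, hl⟩ := Finset.exists_ne_zero_of_sum_ne_zero (left_ne_zero_of_mul hr)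
      rw [hn i l (left_ne_zero_of_mul hl)]
      have a2 := Layout.Supp.entry hb (right_ne_zero_of_mul hl)
      have a3 := D.n0_mono.inv r j (right_ne_zero_of_mul hr)
      rw [a3] at a2
      simpa using a2
    rw [inv_inv] at key
    have hπ : π⁻¹ * D.π0 = 1 := by
      refine perm_le_eq_one _ fun p => ?_
      obtain ⟨j, hj⟩ := D.surj (D.π0 p)
      have := key j j (by rw [Layout.Supp.diag hu j]; exact one_ne_zero)
      rw [Equiv.Perm.mul_apply, ← hj]
      refine this.trans (le_of_eq ?_)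
      rw [hj]
      simp
    have hπ' : π⁻¹ = D.π0⁻¹ := eq_inv_of_mul_eq_one_left hπ
    refine D.inj ?_
    rw [map_one]
    ext i j
    by_contra hne
    have h1 : (D.mat u - 1) i j ≠ 0 := by simpa [sub_eq_zero] using hne
    have h2 := hu i j h1
    have h3 : D.mat u i j ≠ 0 := by
      intro h0
      rcases eq_or_ne i j with rfl | hij
      · rw [Layout.Supp.diag hu i] at h0; exact one_ne_zero h0
      · exact hne (by rw [h0, Matrix.one_apply_ne hij])
    have h4 := D.anti _ _ (key i j h3)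
    rw [hπ'] at h4
    simp only [Equiv.Perm.inv_def, Equiv.apply_symm_apply] at h4
    exact absurd h2 (not_lt_of_ge h4)

theorem pgroup {p : ℕ} [Fact p.Prime] [CharP F p] : IsPGroup p D.apt.U := by
  classical
  haveI := Fintype.ofFinite P
  intro ⟨g, hg⟩
  let rk : P → ℕ := fun x => (Finset.univ.filter fun y => y < x).card
  have hrk : ∀ x y, x < y → rk x < rk y := fun x y h => by
    refine Finset.card_lt_card (Finset.ssubset_iff_of_subset ?_ |>.2 ⟨x, ?_, ?_⟩)
    · intro z hz; simp only [Finset.mem_filter, Finset.mem_univ, true_and] at hz ⊢; exact hz.trans h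
    · simpa using h
    · simp
  set M := D.mat g - 1 with hM
  have hpow : ∀ k i j, (M ^ k) i j ≠ 0 → rk (D.pos i) + k ≤ rk (D.pos j) := by
    intro k
    induction k with
    | zero =>
      intro i j h
      rw [pow_zero] at h
      rcases eq_or_ne i j with rfl | hij
      · simp
      · exact absurd (Matrix.one_apply_ne hij) h
    | succ k ih =>
      intro i j h
      rw [pow_succ, Matrix.mul_apply] at h
      obtain ⟨l, -, hl⟩ := Finset.exists_ne_zero_of_sum_ne_zero h
      have h1 := ih i l (left_ne_zero_of_mul hl)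
      have h2 := hrk _ _ (hg l j (right_ne_zero_of_mul hl))
      omega
  refine ⟨Fintype.card P + 1, Subtype.ext (D.inj ?_)⟩
  have hp : p.Prime := Fact.out
  have hM0 : M ^ (p ^ (Fintype.card P + 1)) = 0 := by
    ext i j
    by_contra h
    have h1 := hpow _ i j h
    have h2 : rk (D.pos j) ≤ Fintype.card P := Finset.card_le_univ _
    have h3 : Fintype.card P + 1 < p ^ (Fintype.card P + 1) := Nat.lt_pow_self hp.one_lt
    omega
  rcases isEmpty_or_nonempty ι with hι | hι
  · exact Subsingleton.elim _ _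
  rw [hM, sub_pow_char_pow_of_commute (p := p) _ (Commute.one_right _), one_pow, sub_eq_zero] at hM0
  simpa using hM0

/-- the character on a central quotient -/
theorem exists_steinberg {p : ℕ} [Fact p.Prime] [CharP F p]
    (hblock : ∀ g, D.Supp (· ≤ ·) g → (∃ j : ℕ, g ^ p ^ j = 1) →
      ∀ i j, D.pos i = D.pos j → (D.mat g - 1) i j = 0)
    {Q : Type*} [Group Q] (π : G →* Q) (hπ : Function.Surjective π)
    (hcen : π.ker ≤ Subgroup.center G) :
    ∃ χ : Q → ℂ, Cfsg.IsIrrCharacter Q χ ∧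
      ∀ P : Sylow p Q, χ 1 = Nat.card P ∧ ∀ x : Q, x ∈ P → x ≠ 1 → χ x = 0 := by
  refine D.apt.exists_steinberg D.pgroup (fun g hg hp => ?_) (fun n hn hnB => ?_) π hπ hcen
  · intro i j hij
    exact lt_of_le_of_ne (hg i j hij) fun e => hij (hblock g hg hp i j e)
  · obtain ⟨ρ, hρ, hn⟩ := hn
    have hρ1 : ρ⁻¹ ≠ 1 := by
      intro e
      rw [inv_eq_one] at e
      subst e
      exact hnB (D.upper_of_mono_one hn)
    obtain ⟨s, hs, a, b, hR, hnot⟩ : ∃ s ∈ D.S, ∃ a b, D.R s a b ∧ ¬ ρ⁻¹ a < ρ⁻¹ b := by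
      by_contra hc
      push Not at hc
      exact hρ1 (D.sepW _ (inv_mem hρ) fun s hs a b h => hc s hs a b h)
    obtain ⟨x, hx1, hx⟩ := D.X_nt s hs
    refine ⟨x, Layout.Supp.mono hx (D.R_lt s hs), fun n' ⟨ρ', _, hn'⟩ hb => ?_⟩
    have hdec := (D.orient s hs ρ⁻¹ (inv_mem hρ)).resolve_left fun h => hnot (h a b hR)
    have hx' : x = n' * (n'⁻¹ * x * n) * n⁻¹ := by group
    have key : ∀ i j, D.mat x i j ≠ 0 → ρ'⁻¹ (D.pos i) ≤ ρ⁻¹ (D.pos j) := by
      intro i j hij
      rw [hx', map_mul, map_mul, Matrix.mul_apply] at hij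
      obtain ⟨r, -, hr⟩ := Finset.exists_ne_zero_of_sum_ne_zero hij
      rw [Matrix.mul_apply] at hr
      obtain ⟨l, -, hl⟩ := Finset.exists_ne_zero_of_sum_ne_zero (left_ne_zero_of_mul hr)
      rw [hn' i l (left_ne_zero_of_mul hl)]
      have a2 := Layout.Supp.entry hb (right_ne_zero_of_mul hl)
      rw [hn.inv r j (right_ne_zero_of_mul hr)] at a2
      simpa using a2
    have hxU : D.Supp (· < ·) x := Layout.Supp.mono hx (D.R_lt s hs)
    have he : ρ'⁻¹ * ρ = 1 := by
      refine perm_le_eq_one _ fun q => ?_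
      obtain ⟨j, hj⟩ := D.surj (ρ q)
      have := key j j (by rw [Layout.Supp.diag hxU j]; exact one_ne_zero)
      rw [Equiv.Perm.mul_apply, ← hj]
      refine this.trans (le_of_eq ?_)
      rw [hj]; simp
    obtain ⟨i, j, hij⟩ : ∃ i j, (D.mat x - 1) i j ≠ 0 := by
      by_contra hc
      push Not at hc
      exact hx1 (D.inj (by rw [map_one, ← sub_eq_zero]; ext i j; exact hc i j))
    have h2 := hx i j hij
    have hne : i ≠ j := fun e => (D.R_lt s hs _ _ h2).ne (by rw [e])
    have h3 := key i j (by simpa [Matrix.one_apply_ne hne] using hij)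
    rw [eq_inv_of_mul_eq_one_left he] at h3
    exact absurd (hdec _ _ h2) (not_lt_of_ge h3)

end Sys

end CfsgLib.StChar
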