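import Cfsg.Agent.StChar.BC
import Cfsg.Agent.UTwoGen.Elements

/-!
The apartment data of the special unitary group.
-/

set_option autoImplicit false
set_option maxHeartbeats 1000000

namespace CfsgLib.StChar.SU

open Matrix CfsgLib.UGeom CfsgLib.UTwoGen CfsgLib.StChar.BC

variable {F : Type*} [Field F] [Fintype F] {q n k r : ℕ} {C : Conj F q}

local notation "H" => Cfsg.hermForm n F q
local notation "Vn" => (Fin n → F)
local notation "SUn" => Cfsg.SU n F q
local notation "mM" A:max => (((A : SUn) : Matrix.SpecialLinearGroup (Fin n) F) : Matrix (Fin n) (Fin n) F)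
local notation "jl" i:max => (Sum.inl (Sum.inl i) : UTwoGen.J k r)
local notation "jr" i:max => (Sum.inl (Sum.inr i) : UTwoGen.J k r)
local notation "jm" i:max => (Sum.inr i : UTwoGen.J k r)

/-- the positions -/
def pos : UTwoGen.J k r → Pos k r := fun x => x

@[simp] theorem pos_l (i : Fin (k + 1)) : pos (jl i) = pl i := rfl
@[simp] theorem pos_r (i : Fin (k + 1)) : pos (jr i) = pr i := rfl
@[simp] theorem pos_m (i : Fin r) : pos (jm i) = pm i := rfl

theorem pos_inj : Function.Injective (pos : UTwoGen.J k r → Pos k r) := fun _ _ h => h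

/-- the linear map of an element -/
def linSU (g : Cfsg.SU n F q) : (Fin n → F) →ₗ[F] (Fin n → F) :=
  Matrix.toLin' (((g : Cfsg.SU n F q) : Matrix.SpecialLinearGroup (Fin n) F) : Matrix (Fin n) (Fin n) F)

/-- the layout -/
noncomputable def lay (D : UFrame C n k r) : Layout (Cfsg.SU n F q) F (UTwoGen.J k r) (Pos k r) where
  mat :=
    { toFun := fun g => LinearMap.toMatrix D.b D.b (linSU g)
      map_one' := by simp [linSU]
      map_mul' := fun g h => by
        rw [← LinearMap.toMatrix_comp D.b D.b D.b, linSU, linSU, linSU, ← Matrix.toLin'_mul]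
        rfl }
  inj := fun g h e => by
    refine D.ext_basis fun x => ?_
    have := LinearMap.congr_fun ((LinearMap.toMatrix D.b D.b).injective e) (D.b x)
    simpa [linSU] using this
  pos := pos
  surj := fun p => ⟨p, rfl⟩

theorem lay_mat (D : UFrame C n k r) (g : SUn) (a b : UTwoGen.J k r) :
    (lay D).mat g a b = D.b.repr (mM g *ᵥ D.b b) a := by
  show LinearMap.toMatrix D.b D.b (linSU g) a b = _
  rw [LinearMap.toMatrix_apply, linSU, Matrix.toLin'_apply]

variable (D : UFrame C n k r)

theorem one_apply_eq (a b : UTwoGen.J k r) :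
    (1 : Matrix (UTwoGen.J k r) (UTwoGen.J k r) F) a b = D.b.repr (D.b b) a := by
  rw [Module.Basis.repr_self, Finsupp.single_apply, Matrix.one_apply]
  exact if_congr eq_comm rfl rfl

theorem supp_iff (R : Pos k r → Pos k r → Prop) (g : SUn) :
    (lay D).Supp R g ↔ ∀ a b, D.b.repr (mM g *ᵥ D.b b) a ≠ D.b.repr (D.b b) a → R (pos a) (pos b) := by
  have e : ∀ a b, ((lay D).mat g - 1) a b =
      D.b.repr (mM g *ᵥ D.b b) a - D.b.repr (D.b b) a := fun a b => by
    rw [Matrix.sub_apply, lay_mat, one_apply_eq D]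
  constructor <;> intro h a b hab
  · exact h a b (by rw [e]; exact sub_ne_zero.2 hab)
  · exact h a b (by rw [e] at hab; exact sub_ne_zero.1 hab)

variable {D}

theorem repr_of_supp {R : Pos k r → Pos k r → Prop} {g : SUn} (hg : (lay D).Supp R g)
    (a b : UTwoGen.J k r) (h : ¬ R (pos a) (pos b)) :
    D.b.repr (mM g *ᵥ D.b b) a = D.b.repr (D.b b) a :=
  by_contra fun hne => h ((supp_iff D R g).1 hg a b hne)

variable (D)

theorem repr_b (a b : UTwoGen.J k r) : D.b.repr (D.b b) a = if b = a then 1 else 0 := by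
  rw [Module.Basis.repr_self, Finsupp.single_apply]

theorem bar_eq (x : UTwoGen.J k r) : pos (UTwoGen.bar x) = BC.bar (pos x) := by
  rcases x with (i | i) | i <;> rfl

/-- the form in coordinates -/
theorem form_repr (v w : Vn) :
    H v w = ∑ x, D.b.repr v x * C.σ (D.b.repr w (UTwoGen.bar x)) := by
  let φ : Vn →ₗ[F] F :=
    { toFun := fun v => H v w
      map_add' := fun a b => form_add_left a b _
      map_smul' := fun c a => form_smul_left c a _ }
  show φ v = _
  conv_lhs => rw [← D.b.sum_repr v, map_sum]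
  refine Finset.sum_congr rfl fun x _ => ?_
  rw [map_smul, smul_eq_mul]
  congr 1
  show H (D.b x) w = _
  rw [D.repr_eq, UTwoGen.bar_bar, form_conj C]

theorem form_b (x y : UTwoGen.J k r) : H (D.b x) (D.b y) = if UTwoGen.bar x = y then 1 else 0 :=
  D.gram x y

/-- a short root element -/
noncomputable def xS (i : Fin k) (t : F) : SUn :=
  eich C (D.b (jl i.castSucc)) ((-C.σ t) • D.b (jr i.succ)) 0 (D.b_iso _)
    (by rw [form_smul_left, D.gram, if_neg, mul_zero]; simp [UTwoGen.bar, (Fin.castSucc_lt_succ (i := i)).ne'])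
    (by rw [form_smul_left, form_smul_right C, D.b_iso]; simp)

theorem xS_mulVec (i : Fin k) (t : F) (x : Vn) :
    mM (xS D i t) *ᵥ x = x + (-(C.σ t * D.b.repr x (jr i.castSucc))) • D.b (jr i.succ) +
      (t * D.b.repr x (jl i.succ)) • D.b (jl i.castSucc) := by
  rw [xS, eich_mulVec, D.repr_eq x (jr i.castSucc), D.repr_eq x (jl i.succ)]
  simp only [UTwoGen.bar, Sum.map_inl, Sum.swap_inl, Sum.swap_inr, form_smul_right C, map_neg, C.invol]
  module

theorem xS_inv (i : Fin k) (t : F) : (xS D i t)⁻¹ = xS D i (-t) := by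
  refine inv_eq_of_mul_eq_one_right ?_
  refine D.ext_basis fun x => ?_
  rw [SU_coe_mul, ← Matrix.mulVec_mulVec]
  simp only [xS_mulVec, map_add, map_smul, Finsupp.add_apply, Finsupp.smul_apply, repr_b,
    Sum.inl.injEq, Sum.inr.injEq, reduceCtorEq, if_false, smul_eq_mul, map_neg]
  have hne : i.castSucc ≠ i.succ := (Fin.castSucc_lt_succ (i := i)).ne
  simp only [hne, hne.symm, if_false, mul_zero, add_zero]
  show _ = (1 : Matrix (Fin n) (Fin n) F) *ᵥ D.b x
  rw [Matrix.one_mulVec]
  split_ifs <;> simp <;> module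

/-- an element of the last root group -/
noncomputable def xL (z : Fin r → F) (a : F)
    (ha : a + C.σ a + H (D.vec z) (D.vec z) = 0) : SUn :=
  eich C (D.b (jl (Fin.last k))) (D.vec z) a (D.b_iso _) (D.vec_inU z _) ha

theorem repr_vec (z : Fin r → F) (x : UTwoGen.J k r) :
    D.b.repr (D.vec z) x = Sum.elim (fun _ => 0) z x := by
  rw [UFrame.vec, map_sum, Finsupp.finsetSum_apply]
  rcases x with p | j
  · exact Finset.sum_eq_zero fun j _ => by simp
  · rw [Finset.sum_eq_single j]
    · simp
    · intro b _ hb; simp [hb]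
    · simp

theorem xL_mulVec [Subsingleton (Fin r)] (z : Fin r → F) (a : F)
    (ha : a + C.σ a + H (D.vec z) (D.vec z) = 0) (x : Vn) :
    mM (xL D z a ha) *ᵥ x = x + D.b.repr x (jr (Fin.last k)) • D.vec z +
      (a * D.b.repr x (jr (Fin.last k)) - ∑ j, C.σ (z j) * D.b.repr x (jm j)) •
        D.b (jl (Fin.last k)) := by
  rw [xL, eich_mulVec, D.repr_eq x (jr (Fin.last k))]
  congr 3
  rw [form_repr D, Fintype.sum_sum_type, Finset.sum_eq_zero, zero_add]
  · exact Finset.sum_congr rfl fun j _ => by
      simp [UTwoGen.bar, repr_vec, mul_comm]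
  · intro p _
    rcases p with p | p <;> simp [UTwoGen.bar, repr_vec]

theorem xL_supp [Subsingleton (Fin r)] (z : Fin r → F) (a : F)
    (ha : a + C.σ a + H (D.vec z) (D.vec z) = 0) : (lay D).Supp RLast (xL D z a ha) := by
  rw [supp_iff]
  intro x y h
  rw [xL_mulVec] at h
  simp only [map_add, map_smul, Finsupp.add_apply, Finsupp.smul_apply, repr_b, repr_vec,
    smul_eq_mul] at h
  rcases x with (x | x) | x <;> rcases y with (y | y) | y <;>
    simp at h <;> simp [RLast] <;> grind

theorem xS_supp (i : Fin k) (t : F) : (lay D).Supp (Rsw i) (xS D i t) := by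
  rw [supp_iff]
  intro x y h
  rw [xS_mulVec] at h
  simp only [map_add, map_smul, Finsupp.add_apply, Finsupp.smul_apply, repr_b, smul_eq_mul] at h
  rcases x with (x | x) | x <;> rcases y with (y | y) | y <;>
    simp at h <;> simp [Rsw] <;> grind

/-- the short reflection on the index set -/
def swJ (i : Fin k) : Equiv.Perm (UTwoGen.J k r) :=
  Equiv.sumCongr (Equiv.sumCongr (Equiv.swap i.castSucc i.succ) (Equiv.swap i.castSucc i.succ))
    (Equiv.refl _)

@[simp] theorem swJ_l (i : Fin k) (j : Fin (k + 1)) :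
    swJ i (jl j) = jl (Equiv.swap i.castSucc i.succ j) := rfl
@[simp] theorem swJ_r (i : Fin k) (j : Fin (k + 1)) :
    swJ i (jr j) = jr (Equiv.swap i.castSucc i.succ j) := rfl
@[simp] theorem swJ_m (i : Fin k) (j : Fin r) : swJ i (jm j) = jm j := rfl

theorem pos_swJ (i : Fin k) (x : UTwoGen.J k r) : pos (swJ i x) = sw i (pos x) := by
  rcases x with (j | j) | j
  · rw [swJ_l, pos_l, pos_l, sw_pl]
  · rw [swJ_r, pos_r, pos_r, sw_pr]
  · rw [swJ_m, pos_m, sw_pm]

theorem swJ_swJ (i : Fin k) (x : UTwoGen.J k r) : swJ i (swJ i x) = x := by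
  rcases x with (j | j) | j <;> simp [Equiv.swap_apply_self]

theorem exists_sS (i : Fin k) : ∃ A : SUn, ∀ x, mM A *ᵥ D.b x = D.b (swJ i x) := by
  have hne : i.castSucc ≠ i.succ := (Fin.castSucc_lt_succ (i := i)).ne
  obtain ⟨A, hA⟩ := D.exists_mono (swJ i) (fun _ => 1)
    (fun x => by rcases x with (j | j) | j <;> rfl) (fun x => by simp) (by
      simp [swJ, Equiv.Perm.sign_sumCongr, Equiv.Perm.sign_swap hne])
  exact ⟨A, fun x => by rw [hA x, one_smul]⟩

theorem exists_sL : ∃ (ζ : F) (A : SUn), ζ ≠ 0 ∧ C.σ ζ = -ζ ∧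
    mM A *ᵥ D.b (jl (Fin.last k)) = ζ • D.b (jr (Fin.last k)) ∧
    mM A *ᵥ D.b (jr (Fin.last k)) = (-ζ⁻¹) • D.b (jl (Fin.last k)) ∧
    ∀ x, x ≠ jl (Fin.last k) → x ≠ jr (Fin.last k) → mM A *ᵥ D.b x = D.b x := by
  obtain ⟨ζ, hζ0, hζ⟩ := exists_trace_zero C
  have hσ : C.σ ζ = -ζ := by linear_combination hζ
  obtain ⟨A, hA⟩ := D.exists_mono (Equiv.swap (jl (Fin.last k)) (jr (Fin.last k)))
    (fun x => if x = jl (Fin.last k) then ζ else if x = jr (Fin.last k) then -ζ⁻¹ else 1)
    (fun x => by
      rcases x with (j | j) | j <;> simp [UTwoGen.bar, Equiv.swap_apply_def] <;> split_ifs <;> simp_all)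
    (fun x => by
      rcases x with (j | j) | j <;> simp [UTwoGen.bar] <;> split_ifs <;> simp [hσ, hζ0])
    (by
      rw [Equiv.Perm.sign_swap (by simp), Finset.prod_eq_mul (jl (Fin.last k)) (jr (Fin.last k))
        (by simp) (fun c _ hc => by simp [hc.1, hc.2]) (by simp) (by simp)]
      simp [hζ0])
  refine ⟨ζ, A, hζ0, hσ, ?_, ?_, fun x h1 h2 => ?_⟩
  · rw [hA, if_pos rfl, Equiv.swap_apply_left]
  · rw [hA, if_neg (by simp), if_pos rfl, Equiv.swap_apply_right]
  · rw [hA, if_neg h1, if_neg h2, one_smul, Equiv.swap_apply_of_ne_of_ne h1 h2]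

/-- the short Weyl element -/
noncomputable def sS (i : Fin k) : SUn := (exists_sS D i).choose

theorem sS_b (i : Fin k) (x : UTwoGen.J k r) :
    mM (sS D i) *ᵥ D.b x = D.b (swJ i x) := (exists_sS D i).choose_spec x

/-- the scalar of the last Weyl element -/
noncomputable def zeta : F := (exists_sL D).choose

/-- the last Weyl element -/
noncomputable def sL : SUn := (exists_sL D).choose_spec.choose

theorem zeta_ne : zeta D ≠ 0 := (exists_sL D).choose_spec.choose_spec.1
theorem zeta_conj : C.σ (zeta D) = -zeta D := (exists_sL D).choose_spec.choose_spec.2.1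
theorem sL_e : mM (sL D) *ᵥ D.b (jl (Fin.last k)) = zeta D • D.b (jr (Fin.last k)) :=
  (exists_sL D).choose_spec.choose_spec.2.2.1
theorem sL_f : mM (sL D) *ᵥ D.b (jr (Fin.last k)) = (-(zeta D)⁻¹) • D.b (jl (Fin.last k)) :=
  (exists_sL D).choose_spec.choose_spec.2.2.2.1
theorem sL_fix (x : UTwoGen.J k r) (h1 : x ≠ jl (Fin.last k)) (h2 : x ≠ jr (Fin.last k)) :
    mM (sL D) *ᵥ D.b x = D.b x := (exists_sL D).choose_spec.choose_spec.2.2.2.2 x h1 h2

theorem sS_mono (i : Fin k) : (lay D).Mono (sw i) (sS D i) := by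
  intro a b h
  rw [lay_mat, sS_b, repr_b] at h
  split_ifs at h with hb
  · show pos a = sw i (pos b)
    rw [← hb, pos_swJ]
  · exact absurd rfl h

theorem sL_mono : (lay D).Mono swLast (sL D) := by
  intro a b h
  rw [lay_mat] at h
  show pos a = swLast (pos b)
  by_cases h1 : b = jl (Fin.last k)
  · subst h1
    rw [sL_e, map_smul, Finsupp.smul_apply, repr_b] at h
    rw [pos_l, swLast_pl, if_pos rfl]
    split_ifs at h with hb
    · rw [← hb]; rfl
    · simp at h
  by_cases h2 : b = jr (Fin.last k)
  · subst h2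
    rw [sL_f, map_smul, Finsupp.smul_apply, repr_b] at h
    rw [pos_r, swLast_pr, if_pos rfl]
    split_ifs at h with hb
    · rw [← hb]; rfl
    · simp at h
  rw [sL_fix D b h1 h2, repr_b] at h
  split_ifs at h with hb
  · subst hb
    rcases b with (j | j) | j
    · rw [pos_l, swLast_pl, if_neg (fun e => h1 (by rw [e]))]
    · rw [pos_r, swLast_pr, if_neg (fun e => h2 (by rw [e]))]
    · rw [pos_m, swLast_pm]
  · exact absurd rfl h

theorem T_mono {A : SUn} {a : Fin (k + 1) → F} {μ : Fin r → F} (hA : D.IsT A a μ) :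
    (lay D).Mono 1 A := by
  intro x y h
  rw [lay_mat, hA, map_smul, Finsupp.smul_apply, repr_b] at h
  split_ifs at h with hb
  · rw [hb]; rfl
  · simp at h

theorem xS_rank (i : Fin k) {t : F} (ht : t ≠ 0) :
    ∃ A, (lay D).Mono 1 A ∧ sS D i * xS D i t * sS D i =
      xS D i (1 / t) * sS D i * A * xS D i (1 / t) := by
  have hne : i.castSucc ≠ i.succ := (Fin.castSucc_lt_succ (i := i)).ne
  have hσ : C.σ t ≠ 0 := (map_ne_zero C.σ).2 ht
  set a : Fin (k + 1) → F := Pi.mulSingle i.castSucc t * Pi.mulSingle i.succ (-1 / t) with had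
  have a0 : a i.castSucc = t := by simp [had, hne]
  have a1 : a i.succ = -1 / t := by simp [had, hne.symm]
  have a2 : ∀ j, j ≠ i.castSucc → j ≠ i.succ → a j = 1 := fun j h h' => by simp [had, h, h']
  have ha : ∀ j, a j ≠ 0 := fun j => by
    by_cases h : j = i.castSucc
    · rw [h, a0]; exact ht
    by_cases h' : j = i.succ
    · rw [h', a1]; simp [ht]
    rw [a2 j h h']; exact one_ne_zero
  obtain ⟨A, hA⟩ := D.exists_T a 1 ha (by simp) (by
    rw [Finset.prod_eq_mul i.castSucc i.succ hne (fun c _ hc => by simp [a2 c hc.1 hc.2]) (by simp)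
      (by simp), a0, a1, map_div₀, map_neg, map_one]
    simp; field_simp)
  refine ⟨A, T_mono D hA, D.ext_basis fun x => ?_⟩
  simp only [SU_coe_mul, ← Matrix.mulVec_mulVec]
  have hA' : ∀ y, mM A *ᵥ D.b y = dT C a 1 y • D.b y := hA
  rcases x with (j | j) | j <;> (try by_cases h1 : j = i.castSucc) <;> (try by_cases h2 : j = i.succ) <;>
    (try subst h1) <;> (try subst h2) <;> (try exact absurd h2 hne) <;>
    simp [sS_b, xS_mulVec, hA', dT, repr_b, Matrix.mulVec_add, Matrix.mulVec_smul, Matrix.mulVec_neg,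
      Equiv.swap_apply_def, hne, hne.symm, a0, a1, a2, *] <;>
    match_scalars <;> field_simp <;> ring

theorem xL_rank [Subsingleton (Fin r)] (z : Fin r → F) (a : F)
    (ha : a + C.σ a + H (D.vec z) (D.vec z) = 0) (ha0 : a ≠ 0) :
    ∃ A z' a' ha' z'' ha'', (lay D).Mono 1 A ∧ sL D * xL D z a ha * sL D =
      xL D z' a' ha' * sL D * A * xL D z'' a' ha'' := by
  set ζ := zeta D with hζd
  have hζ : ζ ≠ 0 := zeta_ne D
  have hσ : C.σ ζ = -ζ := zeta_conj D
  have hσa : C.σ a ≠ 0 := (map_ne_zero C.σ).2 ha0
  set e : Fin (k + 1) := Fin.last k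
  set α : Fin (k + 1) → F := Pi.mulSingle e (a * ζ) with hαd
  have αe : α e = a * ζ := by simp [hαd]
  have αn : ∀ j, j ≠ e → α j = 1 := fun j h => by simp [hαd, h]
  have hα : ∀ j, α j ≠ 0 := fun j => by
    by_cases h : j = e
    · rw [h, αe]; exact mul_ne_zero ha0 hζ
    · rw [αn j h]; exact one_ne_zero
  have hvv : ∀ (c : F) (z : Fin r → F), H (D.vec (c • z)) (D.vec (c • z)) =
      c * C.σ c * H (D.vec z) (D.vec z) := fun c z => by
    rw [D.vec_smul, form_smul_left, form_smul_right C]; ring
  obtain ⟨A, hA⟩ := D.exists_T α (fun _ => C.σ (a * ζ) / (a * ζ)) hα (fun j => by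
      rw [map_div₀, C.invol, map_mul, hσ]; field_simp) (by
    rw [Finset.prod_eq_single e, αe]
    · rcases Nat.eq_zero_or_pos r with hr | hr
      · subst hr
        have h0 : D.vec z = 0 := by simp [UFrame.vec]
        rw [h0, form_zero_left, add_zero] at ha
        have : C.σ a = -a := by linear_combination ha
        simp [map_mul, hσ, this]; field_simp
      · have hr1 : r = 1 := by
          by_contra h
          exact absurd (Subsingleton.elim (⟨0, hr⟩ : Fin r) ⟨1, by omega⟩) (by simp [Fin.ext_iff])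
        subst hr1
        rw [Fin.prod_univ_one, map_mul, hσ]
        field_simp
    · intro b _ hb; simp [αn b hb]
    · simp)
  have hvz := hvv
  have ha' : -1 / (a * ζ ^ 2) + C.σ (-1 / (a * ζ ^ 2)) +
      H (D.vec ((1 / (a * ζ)) • z)) (D.vec ((1 / (a * ζ)) • z)) = 0 := by
    rw [hvv]
    simp only [map_div₀, map_neg, map_one, map_mul, map_pow, hσ]
    field_simp
    linear_combination -ha
  have ha'' : -1 / (a * ζ ^ 2) + C.σ (-1 / (a * ζ ^ 2)) +
      H (D.vec ((-1 / (C.σ a * ζ)) • z)) (D.vec ((-1 / (C.σ a * ζ)) • z)) = 0 := by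
    rw [hvv]
    simp only [map_div₀, map_neg, map_one, map_mul, map_pow, hσ, C.invol]
    field_simp
    linear_combination -ha
  refine ⟨A, _, _, ha', _, ha'', T_mono D hA, D.ext_basis fun x => ?_⟩
  simp only [SU_coe_mul, ← Matrix.mulVec_mulVec]
  have hA' : ∀ y, mM A *ᵥ D.b y = dT C α (fun _ => C.σ (a * ζ) / (a * ζ)) y • D.b y := hA
  have hsv : ∀ v : Fin r → F, mM (sL D) *ᵥ D.vec v = D.vec v := fun v => by
    simp only [UFrame.vec, Matrix.mulVec_sum, Matrix.mulVec_smul]
    exact Finset.sum_congr rfl fun j _ => by rw [sL_fix D _ (by simp) (by simp)]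
  have hAv : ∀ v : Fin r → F, mM A *ᵥ D.vec v = (C.σ (a * ζ) / (a * ζ)) • D.vec v := fun v => by
    rw [D.T_vec hA, ← D.vec_smul]; rfl
  rcases x with (j | j) | j
  · by_cases h : j = e
    · subst h
      simp [xL_mulVec, sL_e, sL_f, hA', dT, αe, repr_b, repr_vec, Matrix.mulVec_add, Matrix.mulVec_smul,
        hsv, hAv, D.vec_smul, map_mul, hσ, ← hζd, e]
      match_scalars <;> field_simp
    · have h1 : mM (sL D) *ᵥ D.b (jl j) = D.b (jl j) := sL_fix D _ (by simp [e] at h ⊢; exact h) (by simp)
      simp [xL_mulVec, h1, hA', dT, αn j h, repr_b, show (j = Fin.last k) = False by simp [e] at h ⊢; exact h]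
  · by_cases h : j = e
    · subst h
      simp [xL_mulVec, sL_e, sL_f, hA', dT, αe, repr_b, repr_vec, Matrix.mulVec_add, Matrix.mulVec_smul,
        Matrix.mulVec_neg, hsv, hAv, D.vec_smul, map_mul, hσ, ← hζd, e]
      have hzz : H (D.vec z) (D.vec z) = ∑ j, z j * C.σ (z j) := D.vec_form z z
      rw [hzz] at ha
      rcases Nat.eq_zero_or_pos r with hr | hr
      · subst hr
        simp at ha ⊢
        match_scalars <;> field_simp <;> first | ring1 | linear_combination ha | linear_combination -ha
      · simp only [Fintype.sum_subsingleton _ (⟨0, hr⟩ : Fin r)] at ha ⊢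
        match_scalars <;> field_simp <;> first | ring1 | linear_combination ha | linear_combination -ha
    · have h1 : mM (sL D) *ᵥ D.b (jr j) = D.b (jr j) := sL_fix D _ (by simp) (by simp [e] at h ⊢; exact h)
      simp [xL_mulVec, h1, hA', dT, αn j h, repr_b, show (j = Fin.last k) = False by simp [e] at h ⊢; exact h]
  · have h1 : mM (sL D) *ᵥ D.b (jm j) = D.b (jm j) := sL_fix D _ (by simp) (by simp)
    have hvj : ∀ v : Fin r → F, D.vec v = v j • D.b (jm j) := fun v =>
      Fintype.sum_subsingleton _ j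
    rw [D.vec_form, Fintype.sum_subsingleton _ j] at ha
    simp [Fintype.sum_subsingleton _ j, hvj, xL_mulVec, h1, sL_e, sL_f, hA', dT, αe, repr_b, repr_vec, Matrix.mulVec_add, Matrix.mulVec_smul,
      Matrix.mulVec_neg, hsv, hAv, D.vec_smul, map_mul, hσ, ← hζd, e, C.invol, map_div₀]
    match_scalars <;> field_simp <;> first | ring1 | linear_combination ha | linear_combination -ha

theorem eq_xS [Subsingleton (Fin r)] (i : Fin k) {g : SUn} (hg : (lay D).Supp (Rsw i) g) :
    g = xS D i (D.b.repr (mM g *ᵥ D.b (jl i.succ)) (jl i.castSucc)) := by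
  set t := D.b.repr (mM g *ᵥ D.b (jl i.succ)) (jl i.castSucc) with ht
  have hne : i.castSucc ≠ i.succ := (Fin.castSucc_lt_succ (i := i)).ne
  have hw : D.b.repr (mM g *ᵥ D.b (jr i.castSucc)) (jr i.succ) = -C.σ t := by
    have h := SU_form g (D.b (jl i.succ)) (D.b (jr i.castSucc))
    rw [D.gram, if_neg (by simp [UTwoGen.bar, hne.symm]), form_repr D,
      Finset.sum_eq_add (jl i.succ) (jl i.castSucc) (by simp [hne.symm])] at h
    · simp only [UTwoGen.bar, Sum.map_inl, Sum.swap_inl] at h
      rw [repr_of_supp hg (jl i.succ) (jl i.succ) (by simp [Rsw, hne.symm]),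
        repr_of_supp hg (jr i.castSucc) (jr i.castSucc) (by simp [Rsw, hne]), ← ht] at h
      simp [repr_b] at h
      have h' := congrArg C.σ h
      simp only [map_add, C.invol, map_zero] at h'
      linear_combination h'
    · intro c _ hc
      by_cases hR : Rsw i (pos c) (pos (jl i.succ))
      · simp [Rsw] at hR
        exact absurd (pos_inj hR) hc.2
      · rw [repr_of_supp hg c _ hR, repr_b, if_neg (fun e => hc.1 e.symm), zero_mul]
    · simp
    · simp
  refine D.ext_basis fun y => D.b.repr.injective (Finsupp.ext fun x => ?_)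
  rw [xS_mulVec]
  simp only [map_add, map_smul, Finsupp.add_apply, Finsupp.smul_apply, repr_b, smul_eq_mul]
  by_cases h1 : x = jl i.castSucc ∧ y = jl i.succ
  · obtain ⟨rfl, rfl⟩ := h1; simp [hne.symm, ← ht]
  by_cases h2 : x = jr i.succ ∧ y = jr i.castSucc
  · obtain ⟨rfl, rfl⟩ := h2; simp [hne, hw]
  rw [repr_of_supp hg x y ?_, repr_b]
  · rcases x with (x | x) | x <;> rcases y with (y | y) | y <;>
      simp at h1 h2 ⊢ <;> grind
  · rintro (⟨ex, ey⟩ | ⟨ex, ey⟩)
    · exact h1 ⟨pos_inj ex, pos_inj ey⟩
    · exact h2 ⟨pos_inj ex, pos_inj ey⟩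

variable {D}

theorem last_col [Subsingleton (Fin r)] {g : SUn} (hg : (lay D).Supp (· < ·) g) :
    (D.b.repr (mM g *ᵥ D.b (jr (Fin.last k))) (jl (Fin.last k)) +
      C.σ (D.b.repr (mM g *ᵥ D.b (jr (Fin.last k))) (jl (Fin.last k))) +
      H (D.vec fun j => D.b.repr (mM g *ᵥ D.b (jr (Fin.last k))) (jm j))
        (D.vec fun j => D.b.repr (mM g *ᵥ D.b (jr (Fin.last k))) (jm j)) = 0) ∧
      ∀ j, D.b.repr (mM g *ᵥ D.b (jm j)) (jl (Fin.last k)) =
        -C.σ (D.b.repr (mM g *ᵥ D.b (jr (Fin.last k))) (jm j)) := by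
  set e : Fin (k + 1) := Fin.last k
  have hlow : ∀ i, i ≠ e → D.b.repr (mM g *ᵥ D.b (jr e)) (jr i) = 0 := fun i hi => by
    rw [repr_of_supp hg _ _ (by
      have : i.1 ≠ k := fun h => hi (Fin.ext h)
      simp [lt_iff, e]; omega), repr_b, if_neg]
    simp [Ne.symm hi]
  have hone : D.b.repr (mM g *ᵥ D.b (jr e)) (jr e) = 1 := by
    rw [repr_of_supp hg _ _ (lt_irrefl _)]; simp
  constructor
  · have h := SU_form g (D.b (jr e)) (D.b (jr e))
    rw [D.b_iso, form_repr D, Fintype.sum_sum_type, Fintype.sum_sum_type, Finset.sum_eq_single e,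
      Finset.sum_eq_single e] at h
    · simp only [UTwoGen.bar, Sum.map_inl, Sum.swap_inl, Sum.swap_inr, Sum.map_inr, id_eq, hone,
        map_one, mul_one, one_mul] at h
      rw [D.vec_form]
      linear_combination h
    · intro b _ hb; rw [hlow b hb, zero_mul]
    · simp
    · intro b _ hb
      simp only [UTwoGen.bar, Sum.map_inl, Sum.swap_inl, hlow b hb, map_zero, mul_zero]
    · simp
  · intro j
    have h := SU_form g (D.b (jm j)) (D.b (jr e))
    have hm : ∀ x, pm j ≤ pos x → D.b.repr (mM g *ᵥ D.b (jm j)) x = if (jm j) = x then 1 else 0 :=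
      fun x hx => by rw [repr_of_supp hg _ _ (not_lt_of_ge hx), repr_b]
    rw [D.gram, if_neg (by simp [UTwoGen.bar]), form_repr D, Fintype.sum_sum_type,
      Fintype.sum_sum_type, Finset.sum_eq_single e, Finset.sum_eq_zero, Finset.sum_eq_single j] at h
    · simp only [UTwoGen.bar, Sum.map_inl, Sum.swap_inl, Sum.map_inr, id_eq, hone, map_one, mul_one,
        hm (jm j) le_rfl, if_true, one_mul, add_zero] at h
      linear_combination h
    · intro b _ hb
      exact absurd (Subsingleton.elim b j) hb
    · simp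
    · intro b _
      rw [hm (jr b) (by simp [BC.le_iff]; omega)]
      simp
    · intro b _ hb
      simp only [UTwoGen.bar, Sum.map_inl, Sum.swap_inl, hlow b hb, map_zero, mul_zero]
    · simp

variable (D)

theorem eq_xL [Subsingleton (Fin r)] {g : SUn} (hg : (lay D).Supp RLast g) :
    ∃ ha, g = xL D (fun j => D.b.repr (mM g *ᵥ D.b (jr (Fin.last k))) (jm j))
      (D.b.repr (mM g *ᵥ D.b (jr (Fin.last k))) (jl (Fin.last k))) ha := by
  obtain ⟨h1, h2⟩ := last_col (D := D) (hg.mono RLast_lt)
  refine ⟨h1, D.ext_basis fun y => D.b.repr.injective (Finsupp.ext fun x => ?_)⟩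
  rw [xL_mulVec]
  simp only [map_add, map_smul, Finsupp.add_apply, Finsupp.smul_apply, repr_b, repr_vec, smul_eq_mul]
  by_cases hR : RLast (pos x) (pos y)
  · rcases hR with ⟨hx, j, hy⟩ | ⟨⟨j, hx⟩, hy⟩ | ⟨hx, hy⟩
    · obtain rfl := pos_inj (hx.trans (pos_l _).symm)
      obtain rfl := pos_inj (hy.trans (pos_m j).symm)
      rw [h2 j, Finset.sum_eq_single j] <;> simp +contextual [eq_comm]
    · obtain rfl := pos_inj (hx.trans (pos_m j).symm)
      obtain rfl := pos_inj (hy.trans (pos_r _).symm)
      simp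
    · obtain rfl := pos_inj (hx.trans (pos_l _).symm)
      obtain rfl := pos_inj (hy.trans (pos_r _).symm)
      simp
  · rw [repr_of_supp hg x y hR, repr_b]
    rcases x with (x | x) | x <;> rcases y with (y | y) | y <;>
      simp [RLast] at hR ⊢ <;> grind

theorem factor_xS [Subsingleton (Fin r)] (i : Fin k) {u : SUn} (hu : (lay D).Supp (· < ·) u) :
    ∃ x, (lay D).Supp (Rsw i) x ∧ (lay D).Supp (fun p q => p < q ∧ ¬ Rsw i p q) (u * x⁻¹) := by
  have hne : i.castSucc ≠ i.succ := (Fin.castSucc_lt_succ (i := i)).ne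
  set t := D.b.repr (mM u *ᵥ D.b (jl i.succ)) (jl i.castSucc) with ht
  refine ⟨xS D i t, xS_supp D i t, ?_⟩
  rw [xS_inv]
  set u' := u * xS D i (-t) with hu'
  have hlt : (lay D).Supp (fun a b : Pos k r => a < b) u' := by
    rw [hu']
    exact Layout.Supp.mul (L := lay D) (R := fun a b : Pos k r => a < b) (fun _ _ _ => lt_trans) hu
      ((xS_supp D i _).mono (Rsw_lt i))
  have h1 : D.b.repr (mM u' *ᵥ D.b (jl i.succ)) (jl i.castSucc) = 0 := by
    rw [hu', SU_coe_mul, ← Matrix.mulVec_mulVec, xS_mulVec]
    simp only [repr_b]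
    simp [Matrix.mulVec_add, Matrix.mulVec_smul, Matrix.mulVec_neg, ← ht,
      repr_of_supp hu (jl i.castSucc) (jl i.castSucc) (lt_irrefl _), hne]
  have h2 : D.b.repr (mM u' *ᵥ D.b (jr i.castSucc)) (jr i.succ) = 0 := by
    have h := SU_form u' (D.b (jl i.succ)) (D.b (jr i.castSucc))
    rw [D.gram, if_neg (by simp [UTwoGen.bar, hne.symm]), form_repr D,
      Finset.sum_eq_single (jl i.succ)] at h
    · simp only [UTwoGen.bar, Sum.map_inl, Sum.swap_inl] at h
      rw [repr_of_supp hlt (jl i.succ) (jl i.succ) (lt_irrefl _)] at h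
      simpa [repr_b] using h
    · intro c _ hc
      by_cases hx : pos c < pl i.succ
      · rcases c with (c | c) | c
        · by_cases hci : c = i.castSucc
          · subst hci; rw [h1, zero_mul]
          · have hlt' : c.1 < i.1 := by
              simp [lt_iff] at hx
              have : c.1 ≠ i.1 := fun e => hci (Fin.ext e)
              omega
            simp only [UTwoGen.bar, Sum.map_inl, Sum.swap_inl]
            rw [repr_of_supp hlt (jr c) (jr i.castSucc) (by simp [lt_iff]; omega), repr_b,
              if_neg (by simp [Ne.symm hci]), map_zero, mul_zero]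
        · simp [lt_iff] at hx; omega
        · simp [lt_iff] at hx; omega
      · rw [repr_of_supp hlt c _ hx, repr_b, if_neg (fun e => hc e.symm), zero_mul]
    · simp
  rw [supp_iff]
  intro a b h
  refine ⟨(supp_iff D _ _).1 hlt a b h, fun hR => h ?_⟩
  rcases hR with ⟨ha, hb⟩ | ⟨ha, hb⟩
  · obtain rfl := pos_inj (ha.trans (pos_l _).symm)
    obtain rfl := pos_inj (hb.trans (pos_l _).symm)
    rw [h1, repr_b, if_neg (by simp [hne.symm])]
  · obtain rfl := pos_inj (ha.trans (pos_r _).symm)
    obtain rfl := pos_inj (hb.trans (pos_r _).symm)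
    rw [h2, repr_b, if_neg (by simp [hne])]

theorem factor_xL [Subsingleton (Fin r)] {u : SUn} (hu : (lay D).Supp (· < ·) u) :
    ∃ x, (lay D).Supp RLast x ∧ (lay D).Supp (fun p q => p < q ∧ ¬ RLast p q) (u * x⁻¹) := by
  obtain ⟨h1, h2⟩ := last_col (D := D) hu
  set z := fun j => D.b.repr (mM u *ᵥ D.b (jr (Fin.last k))) (jm j) with hz
  set a := D.b.repr (mM u *ᵥ D.b (jr (Fin.last k))) (jl (Fin.last k)) with had
  refine ⟨xL D z a h1, xL_supp D _ _ _, ?_⟩
  obtain ⟨g1, g2, hinv⟩ := eich_inv (C := C) (D.b (jl (Fin.last k))) (D.vec z) a (D.b_iso _)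
    (D.vec_inU z _) h1
  have g3 : C.σ a + C.σ (C.σ a) + H (D.vec (-z)) (D.vec (-z)) = 0 := by rw [D.vec_neg]; exact g2
  have hi : (xL D z a h1)⁻¹ = xL D (-z) (C.σ a) g3 := by
    rw [xL, hinv]; simp only [xL, D.vec_neg]
  rw [hi]
  set u' := u * xL D (-z) (C.σ a) g3 with hu'
  have hlt : (lay D).Supp (fun a b : Pos k r => a < b) u' := by
    rw [hu']
    exact Layout.Supp.mul (L := lay D) (R := fun a b : Pos k r => a < b) (fun _ _ _ => lt_trans) hu
      ((xL_supp D _ _ _).mono RLast_lt)
  rw [supp_iff]
  intro x y h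
  refine ⟨(supp_iff D _ _).1 hlt x y h, fun hR => h ?_⟩
  have hvec : ∀ x, D.b.repr (mM u *ᵥ D.vec z) x = ∑ j, z j * D.b.repr (mM u *ᵥ D.b (jm j)) x := fun x => by
    simp [UFrame.vec, Matrix.mulVec_sum, Matrix.mulVec_smul, Finsupp.finsetSum_apply]
  have hll := repr_of_supp hu (jl (Fin.last k)) (jl (Fin.last k)) (lt_irrefl _)
  have hlm : ∀ j, D.b.repr (mM u *ᵥ D.b (jl (Fin.last k))) (jm j) = 0 := fun j => by
    rw [repr_of_supp hu _ _ (by simp [lt_iff]), repr_b, if_neg (by simp)]
  rw [hu', SU_coe_mul, ← Matrix.mulVec_mulVec, xL_mulVec]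
  simp only [repr_b] at hll ⊢
  rcases hR with ⟨hx, j, hy⟩ | ⟨⟨j, hx⟩, hy⟩ | ⟨hx, hy⟩
  · obtain rfl := pos_inj (hx.trans (pos_l _).symm)
    obtain rfl := pos_inj (hy.trans (pos_m j).symm)
    simp [Matrix.mulVec_add, Matrix.mulVec_smul, D.vec_neg, hll, h2 j, Finset.sum_ite_eq', hz,
      Finset.sum_eq_single j]
  · obtain rfl := pos_inj (hx.trans (pos_m j).symm)
    obtain rfl := pos_inj (hy.trans (pos_r _).symm)
    simp [Matrix.mulVec_add, Matrix.mulVec_smul, Matrix.mulVec_neg, D.vec_neg, hlm, hvec,
      repr_of_supp hu (jm j) (jm j) (lt_irrefl _)]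
    rw [Finset.sum_eq_single j]
    · rw [repr_of_supp hu (jm j) (jm j) (lt_irrefl _), repr_b, if_pos rfl, mul_one, hz]; ring
    · intro b _ hb; exact absurd (Subsingleton.elim b j) hb
    · simp
  · obtain rfl := pos_inj (hx.trans (pos_l _).symm)
    obtain rfl := pos_inj (hy.trans (pos_r _).symm)
    simp [Matrix.mulVec_add, Matrix.mulVec_smul, Matrix.mulVec_neg, D.vec_neg, hll, hvec, h2, ← had]
    rw [D.vec_form] at h1
    linear_combination h1

/-- the Weyl representatives -/
noncomputable def SS : Set (Cfsg.SU n F q) := Set.range (sS D) ∪ {sL D}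

theorem upper_of_cols [Subsingleton (Fin r)] {A : SUn}
    (h : ∀ i x, rk (pl i : Pos k r) < rk (pos x) → D.b.repr (mM A *ᵥ D.b (jl i)) x = 0) :
    (∀ v : Vn, ∀ j : ℕ, j ≤ k + 1 → (∀ x, j ≤ rk (pos x) → D.b.repr v x = 0) →
      ∃ w, (∀ x, j ≤ rk (pos x) → D.b.repr w x = 0) ∧ mM A *ᵥ w = v) := by
  classical
  intro v j hj hv
  let S : Submodule F Vn :=
    { carrier := {v | ∀ x, j ≤ rk (pos x) → D.b.repr v x = 0}
      add_mem' := fun ha hb x hx => by simp [ha x hx, hb x hx]
      zero_mem' := fun x _ => by simp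
      smul_mem' := fun c a ha x hx => by simp [ha x hx] }
  have hmap : ∀ w ∈ S, mM A *ᵥ w ∈ S := by
    intro w hw x hx
    rw [← D.b.sum_repr w, Matrix.mulVec_sum, map_sum, Finsupp.finsetSum_apply]
    refine Finset.sum_eq_zero fun y _ => ?_
    by_cases hy : j ≤ rk (pos y)
    · rw [hw y hy, zero_smul, Matrix.mulVec_zero, map_zero]; rfl
    · rw [Matrix.mulVec_smul, map_smul, Finsupp.smul_apply]
      rcases y with (i | i) | i
      · rw [h i x (by simp at hy ⊢; omega), smul_zero]
      · simp at hy; omega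
      · simp at hy; omega
  let f : S →ₗ[F] S := (Matrix.toLin' (mM A)).restrict (fun w hw => by
    rw [Matrix.toLin'_apply]; exact hmap w hw)
  have hf : Function.Injective f := by
    intro a b e
    have e' : mM A *ᵥ (a : Vn) = mM A *ᵥ (b : Vn) := by
      have := congrArg Subtype.val e
      simpa [f, LinearMap.restrict_apply] using this
    exact Subtype.ext (by rw [← SU_inv_mulVec A a, e', SU_inv_mulVec])
  obtain ⟨⟨w, hw⟩, e⟩ := LinearMap.injective_iff_surjective.1 hf ⟨v, hv⟩
  exact ⟨w, hw, by simpa [f, LinearMap.restrict_apply] using congrArg Subtype.val e⟩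

theorem gen_eq_top [Subsingleton (Fin r)] :
    Subgroup.closure ({g | (lay D).Supp (· < ·) g} ∪ SS D ∪ {g | (lay D).Mono 1 g}) = ⊤ := by
  classical
  set K := Subgroup.closure ({g | (lay D).Supp (· < ·) g} ∪ SS D ∪ {g | (lay D).Mono 1 g}) with hK
  have hU : ∀ g, (lay D).Supp (· < ·) g → g ∈ K := fun g hg =>
    Subgroup.subset_closure (Or.inl (Or.inl hg))
  have hxS : ∀ i t, xS D i t ∈ K := fun i t => hU _ ((xS_supp D i t).mono (Rsw_lt i))
  have hsS : ∀ i, sS D i ∈ K := fun i => Subgroup.subset_closure (Or.inl (Or.inr (Or.inl ⟨i, rfl⟩)))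
  have hsL : sL D ∈ K := Subgroup.subset_closure (Or.inl (Or.inr (Or.inr rfl)))
  let Below : ℕ → Vn → Prop := fun j v => ∀ x, j ≤ rk (pos x) → D.b.repr v x = 0
  -- elements moving only late positions
  let Fix : ℕ → SUn → Prop := fun j g => ∀ p : Fin (k + 1), p.1 < j →
    mM g *ᵥ D.b (jl p) = D.b (jl p)
  have Fmul : ∀ j a b, Fix j a → Fix j b → Fix j (a * b) := fun j a b ha hb p hp => by
    rw [SU_coe_mul, ← Matrix.mulVec_mulVec, hb p hp, ha p hp]
  have FxS : ∀ (j : ℕ) (i : Fin k) t, j ≤ i.1 → Fix j (xS D i t) := fun j i t hij p hp => by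
    rw [xS_mulVec, repr_b, repr_b, if_neg (by simp), if_neg (by simp [Fin.ext_iff]; omega)]
    simp
  have FsS : ∀ (j : ℕ) (i : Fin k), j ≤ i.1 → Fix j (sS D i) := fun j i hij p hp => by
    rw [sS_b, swJ_l, Equiv.swap_apply_of_ne_of_ne] <;> simp [Fin.ext_iff] <;> omega
  have FxL : ∀ (j : ℕ) z a ha, j ≤ k → Fix j (xL D z a ha) := fun j z a ha hjk p hp => by
    rw [xL_mulVec, repr_b, if_neg (by simp)]
    simp [repr_b]
  have FsL : ∀ (j : ℕ), j ≤ k → Fix j (sL D) := fun j hjk p hp =>
    sL_fix D _ (by simp [Fin.ext_iff]; omega) (by simp)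
  -- descent
  have desc : ∀ j, j ≤ k → ∀ N, ∀ v : Vn, Below (N + 1) v → H v v = 0 →
      (∀ p : Fin (k + 1), p.1 < j → D.b.repr v (jr p) = 0) →
      ∃ g ∈ K, Fix j g ∧ Below (j + 1) (mM g *ᵥ v) := by
    intro j hj N
    induction N with
    | zero =>
      intro v hv _ _
      exact ⟨1, one_mem _, fun p _ => Matrix.one_mulVec _, fun x hx => by
        rw [show mM (1 : SUn) *ᵥ v = v from Matrix.one_mulVec v]; exact hv x (by omega)⟩
    | succ N ih =>
      intro v hv hvv hperp
      by_cases hjN : N + 1 ≤ j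
      · exact ⟨1, one_mem _, fun p _ => Matrix.one_mulVec _, fun x hx => by
          rw [show mM (1 : SUn) *ᵥ v = v from Matrix.one_mulVec v]; exact hv x (by omega)⟩
      push Not at hjN
      by_cases h0 : Below (N + 1) v
      · exact ih v h0 hvv hperp
      have h0' : ∃ x, rk (pos x) = N + 1 ∧ D.b.repr v x ≠ 0 := by
        by_contra hc
        push Not at hc
        exact h0 fun x hx => by
          rcases eq_or_lt_of_le hx with h | h
          exacts [hc x h.symm, hv x h]
      obtain ⟨x, hx, hxv⟩ := h0'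
      have fin : ∀ g ∈ K, Fix j g → Below (N + 1) (mM g *ᵥ v) →
          ∃ g ∈ K, Fix j g ∧ Below (j + 1) (mM g *ᵥ v) := by
        intro g hg hgf hb
        obtain ⟨g', hg', hf', hc⟩ := ih _ hb (by rw [SU_form, hvv]) (fun p hp => by
          rw [D.repr_eq]
          show H (mM g *ᵥ v) (D.b (jl p)) = 0
          rw [← hgf p hp, SU_form]
          have := hperp p hp
          rwa [D.repr_eq] at this)
        exact ⟨g' * g, mul_mem hg' hg, Fmul j _ _ hf' hgf, by
          rw [SU_coe_mul, ← Matrix.mulVec_mulVec]; exact hc⟩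
      have hz : ∀ y, rk (pos y) > N + 1 → D.b.repr v y = 0 := fun y hy => hv y hy
      rcases x with (i' | i') | i'
      · simp at hx
        have hlt : N < k := by omega
        set i : Fin k := ⟨N, hlt⟩ with hid
        obtain rfl : i' = i.succ := Fin.ext (by simp [hid, hx])
        set t := -(D.b.repr v (jl i.castSucc) / D.b.repr v (jl i.succ)) with ht
        refine fin (sS D i * xS D i t) (mul_mem (hsS i) (hxS i _))
          (Fmul _ _ _ (FsS j i (by simp [hid]; omega)) (FxS j i t (by simp [hid]; omega))) ?_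
        intro y hy
        have hrepr : D.b.repr (mM (sS D i * xS D i t) *ᵥ v) y =
            D.b.repr (mM (xS D i t) *ᵥ v) (swJ i y) := by
          rw [SU_coe_mul, ← Matrix.mulVec_mulVec]
          generalize mM (xS D i t) *ᵥ v = w
          conv_lhs => rw [← D.b.sum_repr w]
          simp only [Matrix.mulVec_sum, Matrix.mulVec_smul, sS_b, map_sum, map_smul,
            Finsupp.finsetSum_apply, Finsupp.smul_apply, repr_b]
          rw [Finset.sum_eq_single (swJ i y)]
          · rw [swJ_swJ, if_pos rfl, smul_eq_mul, mul_one]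
          · intro c _ hc
            rw [if_neg, smul_zero]
            intro e
            exact hc (by rw [← e, swJ_swJ])
          · simp
        rw [hrepr, xS_mulVec]
        simp only [map_add, map_smul, Finsupp.add_apply, Finsupp.smul_apply, repr_b, smul_eq_mul]
        have hne : i.castSucc ≠ i.succ := (Fin.castSucc_lt_succ (i := i)).ne
        have hr0 : D.b.repr v (jr i.castSucc) = 0 := hz _ (by simp [hid]; omega)
        rcases y with (y | y) | y
        · rw [swJ_l]
          by_cases h1 : y = i.succ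
          · subst h1; rw [Equiv.swap_apply_right]; simp [pl, hne, hne.symm, hr0, ht, field]
          · have h2 : y ≠ i.castSucc := fun e => by subst e; simp [hid] at hy
            rw [Equiv.swap_apply_of_ne_of_ne h2 h1]
            have h3 : D.b.repr v (jl y) = 0 := hz _ (by
              have : y.1 ≠ N + 1 := fun e => h1 (Fin.ext (by simp [hid, e]))
              simp at hy ⊢; omega)
            simp [h3, Ne.symm h1, Ne.symm h2, hr0, h2]
        · rw [swJ_r]
          have h3 : D.b.repr v (jr (Equiv.swap i.castSucc i.succ y)) = 0 := hz _ (by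
            simp; have := (Equiv.swap i.castSucc i.succ y).2; omega)
          simp [h3, hr0]
        · rw [swJ_m]
          have h3 : D.b.repr v (jm y) = 0 := hz _ (by simp; omega)
          simp [h3]
      · simp at hx
        by_cases hil : i' = Fin.last k
        · subst hil
          simp at hx
          set c := D.b.repr v (jr (Fin.last k)) with hc
          set z : Fin r → F := fun l => -(D.b.repr v (jm l) / c) with hzd
          have hform : D.b.repr v (jl (Fin.last k)) * C.σ c + c * C.σ (D.b.repr v (jl (Fin.last k))) +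
              ∑ l, D.b.repr v (jm l) * C.σ (D.b.repr v (jm l)) = 0 := by
            rw [form_repr D, Fintype.sum_sum_type, Fintype.sum_sum_type,
              Finset.sum_eq_single (Fin.last k), Finset.sum_eq_single (Fin.last k)] at hvv
            · simpa [UTwoGen.bar, ← hc] using hvv
            · intro b _ hb
              rw [hz (jr b) (by
                have : b.1 ≠ k := fun e => hb (Fin.ext e)
                simp; omega), zero_mul]
            · simp
            · intro b _ hb
              simp only [UTwoGen.bar, Sum.map_inl, Sum.swap_inl]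
              rw [hz (jr b) (by
                have : b.1 ≠ k := fun e => hb (Fin.ext e)
                simp; omega), map_zero, mul_zero]
            · simp
          set a := -((D.b.repr v (jl (Fin.last k)) - ∑ l, C.σ (z l) * D.b.repr v (jm l)) / c) with had
          have hcσ : C.σ c ≠ 0 := (map_ne_zero C.σ).2 hxv
          have hc0 : c ≠ 0 := hxv
          have ha : a + C.σ a + H (D.vec z) (D.vec z) = 0 := by
            rw [D.vec_form, had, hzd]
            rcases Nat.eq_zero_or_pos r with hr | hr
            · subst hr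
              simp only [Finset.univ_eq_empty, Finset.sum_empty, sub_zero, map_neg, map_div₀,
                add_zero] at hform ⊢
              field_simp
              linear_combination -hform
            · have hr1 : r = 1 := by
                by_contra h
                exact absurd (Subsingleton.elim (⟨0, hr⟩ : Fin r) ⟨1, by omega⟩) (by simp [Fin.ext_iff])
              subst hr1
              simp only [Fin.sum_univ_one, map_neg, map_div₀, map_sub, map_mul, C.invol] at hform ⊢
              field_simp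
              linear_combination -hform
          refine fin (sL D * xL D z a ha) (mul_mem hsL (hU _ ((xL_supp D _ _ _).mono RLast_lt)))
            (Fmul _ _ _ (FsL j hj) (FxL j z a ha hj)) ?_
          intro y hy
          rw [SU_coe_mul, ← Matrix.mulVec_mulVec]
          set w := mM (xL D z a ha) *ᵥ v with hwd
          have hw : ∀ x, rk (pos x) ≥ k → x ≠ jr (Fin.last k) → D.b.repr w x = 0 := by
            intro x hxk hxne
            rw [hwd, xL_mulVec]
            simp only [map_add, map_smul, Finsupp.add_apply, Finsupp.smul_apply, repr_b, repr_vec,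
              smul_eq_mul, ← hc]
            rcases x with (l | l) | l
            · obtain rfl : l = Fin.last k := Fin.ext (by simp at hxk ⊢; omega)
              simp [had]; field_simp; ring
            · have hl : l ≠ Fin.last k := fun e => hxne (by rw [e])
              have h3 : D.b.repr v (jr l) = 0 := hz _ (by
                have : l.1 ≠ k := fun e => hl (Fin.ext e)
                simp; omega)
              simp [h3]
            · simp [hzd]; field_simp; ring
          conv_lhs => rw [← D.b.sum_repr w]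
          simp only [Matrix.mulVec_sum, Matrix.mulVec_smul, map_sum, map_smul,
            Finsupp.finsetSum_apply, Finsupp.smul_apply]
          refine Finset.sum_eq_zero fun x _ => ?_
          by_cases h1 : x = jr (Fin.last k)
          · subst h1
            rw [sL_f, map_smul, Finsupp.smul_apply, repr_b, if_neg, smul_zero, smul_zero]
            intro e; subst e; simp at hy; omega
          by_cases h2 : x = jl (Fin.last k)
          · subst h2; rw [hw _ (by simp) h1, zero_smul]
          rw [sL_fix D x h2 h1, repr_b]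
          split_ifs with h3
          · subst h3
            rw [hw x (by omega) h1, zero_smul]
          · rw [smul_zero]
        · have hlt : i'.1 < k := by
            have := i'.2
            have : i'.1 ≠ k := fun e => hil (Fin.ext e)
            omega
          obtain ⟨i, rfl⟩ : ∃ i : Fin k, i' = i.castSucc := ⟨⟨i'.1, hlt⟩, Fin.ext rfl⟩
          simp at hx
          have hij : j ≤ i.1 := by
            by_contra hc
            exact hxv (hperp i.castSucc (by simpa using Nat.lt_of_not_le hc))
          set t := C.σ (D.b.repr v (jr i.succ) / D.b.repr v (jr i.castSucc)) with ht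
          refine fin (sS D i * xS D i t) (mul_mem (hsS i) (hxS i _))
            (Fmul _ _ _ (FsS j i hij) (FxS j i t hij)) ?_
          intro y hy
          rw [SU_coe_mul, ← Matrix.mulVec_mulVec]
          set w := mM (xS D i t) *ᵥ v with hwd
          conv_lhs => rw [← D.b.sum_repr w]
          simp only [Matrix.mulVec_sum, Matrix.mulVec_smul, sS_b, map_sum, map_smul,
            Finsupp.finsetSum_apply, Finsupp.smul_apply, repr_b]
          refine Finset.sum_eq_zero fun x _ => ?_
          split_ifs with h3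
          · subst h3
            rw [hwd, xS_mulVec]
            simp only [map_add, map_smul, Finsupp.add_apply, Finsupp.smul_apply, repr_b, smul_eq_mul,
              ht, C.invol]
            have hne : i.castSucc ≠ i.succ := (Fin.castSucc_lt_succ (i := i)).ne
            rcases x with (l | l) | l
            · exfalso
              rw [swJ_l, pos_l] at hy
              simp at hy
              have := (Equiv.swap i.castSucc i.succ l).2
              omega
            · rw [swJ_r, pos_r] at hy
              simp at hy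
              by_cases h1 : l = i.succ
              · subst h1; simp [hne, hne.symm]; field_simp; ring
              · by_cases h2 : l = i.castSucc
                · exfalso; subst h2; simp at hy; omega
                · rw [Equiv.swap_apply_of_ne_of_ne h2 h1] at hy
                  have h4 : D.b.repr v (jr l) = 0 := hz _ (by
                    have : l.1 ≠ i.1 := fun e => h2 (Fin.ext e)
                    simp; omega)
                  simp [h4, Ne.symm h1]
            · exfalso
              rw [swJ_m, pos_m] at hy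
              simp at hy; omega
          · rw [smul_zero]
      · simp at hx
        exfalso
        refine hxv ?_
        have h1 : ∀ b : Fin (k + 1), D.b.repr v (jr b) = 0 := fun b => hz _ (by simp; omega)
        rw [form_repr D, Fintype.sum_sum_type, Fintype.sum_sum_type, Finset.sum_eq_zero,
          Finset.sum_eq_zero, Finset.sum_eq_single i'] at hvv
        · simpa [UTwoGen.bar] using hvv
        · intro b _ hb; exact absurd (Subsingleton.elim b i') hb
        · simp
        · intro b _; rw [h1, zero_mul]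
        · intro b _; simp only [UTwoGen.bar, Sum.map_inl, Sum.swap_inl]; rw [h1, map_zero, mul_zero]
  -- columns
  have cols : ∀ A : SUn, ∀ j, j ≤ k + 1 → ∃ g ∈ K, ∀ p : Fin (k + 1), p.1 < j →
      Below (p.1 + 1) (mM (g * A) *ᵥ D.b (jl p)) := by
    intro A j
    induction j with
    | zero => intro _; exact ⟨1, one_mem _, fun p hp => absurd hp (Nat.not_lt_zero _)⟩
    | succ j ih =>
      intro hj
      obtain ⟨g, hg, hgc⟩ := ih (by omega)
      set A' := g * A
      obtain ⟨g', hg', hf', hc⟩ := desc j (by omega) (2 * k + 2) (mM A' *ᵥ D.b (jl ⟨j, by omega⟩))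
        (fun x hx => by have := rk_bar (pos x); omega) (by rw [SU_form, D.b_iso]) (fun p hp => by
          -- orthogonality to the earlier columns
          rw [D.repr_eq]
          show H _ (D.b (jl p)) = 0
          let S : Submodule F Vn :=
            { carrier := {v | Below j v}
              add_mem' := fun ha hb x hx => by simp [ha x hx, hb x hx]
              zero_mem' := fun x _ => by simp
              smul_mem' := fun c a ha x hx => by simp [ha x hx] }
          have hmap : ∀ w ∈ S, mM A' *ᵥ w ∈ S := by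
            intro w hw x hx
            rw [← D.b.sum_repr w, Matrix.mulVec_sum, map_sum, Finsupp.finsetSum_apply]
            refine Finset.sum_eq_zero fun y _ => ?_
            by_cases hy : j ≤ rk (pos y)
            · rw [hw y hy, zero_smul, Matrix.mulVec_zero, map_zero]; rfl
            · rw [Matrix.mulVec_smul, map_smul, Finsupp.smul_apply]
              rcases y with (i | i) | i
              · rw [hgc i (by simp at hy; omega) x (by simp at hy; omega), smul_zero]
              · simp at hy; omega
              · simp at hy; omega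
          let f : S →ₗ[F] S := (Matrix.toLin' (mM A')).restrict (fun w hw => by
            rw [Matrix.toLin'_apply]; exact hmap w hw)
          have hf : Function.Injective f := by
            intro a b e
            have e' : mM A' *ᵥ (a : Vn) = mM A' *ᵥ (b : Vn) := by
              have := congrArg Subtype.val e
              simpa [f, LinearMap.restrict_apply] using this
            exact Subtype.ext (by rw [← SU_inv_mulVec A' a, e', SU_inv_mulVec])
          have hmem : D.b (jl p) ∈ S := fun x hx => by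
            rw [repr_b, if_neg]; intro e; subst e; simp at hx; omega
          obtain ⟨⟨w, hw⟩, e⟩ := LinearMap.injective_iff_surjective.1 hf ⟨_, hmem⟩
          have e' : mM A' *ᵥ w = D.b (jl p) := by
            simpa [f, LinearMap.restrict_apply] using congrArg Subtype.val e
          rw [← e', SU_form, form_repr D, Finset.sum_eq_single (jl ⟨j, by omega⟩)]
          · simp only [UTwoGen.bar, Sum.map_inl, Sum.swap_inl]
            rw [hw (jr ⟨j, by omega⟩) (by simp; omega), map_zero, mul_zero]
          · intro b _ hb; rw [repr_b, if_neg (Ne.symm hb), zero_mul]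
          · simp)
      refine ⟨g' * g, mul_mem hg' hg, fun p hp => ?_⟩
      rw [mul_assoc, SU_coe_mul, ← Matrix.mulVec_mulVec]
      rcases Nat.lt_or_ge p.1 j with h | h
      · have hfix : mM g' *ᵥ (mM A' *ᵥ D.b (jl p)) = mM A' *ᵥ D.b (jl p) := by
          conv_lhs => rw [← D.b.sum_repr (mM A' *ᵥ D.b (jl p))]
          conv_rhs => rw [← D.b.sum_repr (mM A' *ᵥ D.b (jl p))]
          rw [Matrix.mulVec_sum]
          refine Finset.sum_congr rfl fun y _ => ?_
          rw [Matrix.mulVec_smul]
          by_cases hy : p.1 + 1 ≤ rk (pos y)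
          · rw [hgc p h y hy, zero_smul, zero_smul]
          · rcases y with (i | i) | i
            · rw [hf' i (by simp at hy; omega)]
            · simp at hy; omega
            · simp at hy; omega
        rw [hfix]; exact hgc p h
      · have hpj : p = ⟨j, by omega⟩ := Fin.ext (by simp; omega)
        rw [hpj]
        exact hc
  refine eq_top_iff.2 fun A _ => ?_
  obtain ⟨g, hg, hcol⟩ := cols A (k + 1) le_rfl
  set A' := g * A with hA'
  suffices hA'K : A' ∈ K from (Subgroup.mul_mem_cancel_left K hg).1 hA'K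
  have hup := upper_of_cols D (A := A') fun i x hx => hcol i i.2 x (by simpa using hx)
  have hupper : ∀ x y, rk (pos y) < rk (pos x) → D.b.repr (mM A' *ᵥ D.b y) x = 0 := by
    intro x y hxy
    rcases y with (i | i) | i
    · exact hcol i i.2 x (by simpa using hxy)
    all_goals
      rcases x with (l | l) | l
      · simp at hxy; omega
      swap
      · simp at hxy; try omega
      rw [D.repr_eq]
      show H _ (D.b (jl l)) = 0
      obtain ⟨w, hw, hwe⟩ := hup (D.b (jl l)) (l.1 + 1) (by omega) (fun x hx => by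
        rw [repr_b, if_neg]; intro e; subst e; simp at hx)
      rw [← hwe, SU_form, form_repr D]
      refine Finset.sum_eq_zero fun z _ => ?_
      rw [repr_b]
      split_ifs with hz
      · subst hz
        rw [one_mul, hw _ (by simp [UTwoGen.bar] at *; omega), map_zero]
      · rw [zero_mul]
  set d : UTwoGen.J k r → F := fun x => D.b.repr (mM A' *ᵥ D.b x) x with hd
  have hdd : ∀ x, d x * C.σ (d (UTwoGen.bar x)) = 1 := by
    intro x
    have h := SU_form A' (D.b x) (D.b (UTwoGen.bar x))
    rw [D.gram, if_pos rfl, form_repr D, Finset.sum_eq_single x] at h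
    · exact h
    · intro b _ hb
      rcases lt_trichotomy (rk (pos b)) (rk (pos x)) with h1 | h1 | h1
      · rw [hupper (UTwoGen.bar b) (UTwoGen.bar x) ?_, map_zero, mul_zero]
        have := rk_bar (pos b); have := rk_bar (pos x)
        rw [bar_eq, bar_eq]; omega
      · exact absurd (pos_inj (rk_injective h1)) hb
      · rw [hupper b x h1, zero_mul]
    · simp
  have hprod : ∏ x, d x = 1 := by
    letI : LinearOrder (UTwoGen.J k r) :=
      LinearOrder.lift' (fun x => rk (pos x)) (rk_injective.comp pos_inj)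
    have hdet : (LinearMap.toMatrix D.b D.b (linSU A')).det = 1 := by
      rw [LinearMap.det_toMatrix, linSU, LinearMap.det_toLin']
      exact A'.1.2
    rw [Matrix.det_of_isUpperTriangular] at hdet
    · rw [← hdet]
      refine Finset.prod_congr rfl fun x _ => ?_
      exact (lay_mat D A' x x).symm
    · intro x y hxy
      exact (lay_mat D A' x y).trans (hupper x y hxy)
  obtain ⟨T, hT⟩ := D.exists_mono 1 d (fun x => rfl) hdd (by simpa using hprod)
  have hTm : (lay D).Mono 1 T := by
    intro x y h
    rw [lay_mat, hT, map_smul, Finsupp.smul_apply, repr_b] at h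
    split_ifs at h with hb
    · rw [← hb]; rfl
    · simp at h
  have hTK : T ∈ K := Subgroup.subset_closure (Or.inr hTm)
  suffices h : T⁻¹ * A' ∈ K by simpa using mul_mem hTK h
  refine hU _ ?_
  rw [supp_iff]
  intro x y h
  rw [lt_iff]
  by_contra hxy
  push Not at hxy
  apply h
  have hTi : ∀ z, mM T⁻¹ *ᵥ D.b z = (d z)⁻¹ • D.b z := fun z => by
    have h1 := congrArg (fun v => mM T⁻¹ *ᵥ v) (hT z)
    simp only [SU_inv_mulVec, Matrix.mulVec_smul, Equiv.Perm.one_apply] at h1
    conv_rhs => rw [h1]
    rw [smul_smul, inv_mul_cancel₀ (left_ne_zero_of_mul (by rw [hdd z]; exact one_ne_zero)), one_smul]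
  rw [SU_coe_mul, ← Matrix.mulVec_mulVec, ← D.b.sum_repr (mM A' *ᵥ D.b y), Matrix.mulVec_sum,
    map_sum, Finsupp.finsetSum_apply, Finset.sum_eq_single x]
  · rw [Matrix.mulVec_smul, hTi, map_smul, map_smul, Finsupp.smul_apply, Finsupp.smul_apply,
      repr_b, if_pos rfl, repr_b]
    rcases eq_or_lt_of_le hxy with h1 | h1
    · obtain rfl := pos_inj (rk_injective h1)
      rw [if_pos rfl, smul_eq_mul, smul_eq_mul, mul_one]
      exact mul_inv_cancel₀ (left_ne_zero_of_mul (by rw [hdd]; exact one_ne_zero))
    · rw [hupper x y h1, zero_smul, if_neg]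
      intro e; subst e; exact lt_irrefl _ h1
  · intro z _ hz
    rw [Matrix.mulVec_smul, hTi, map_smul, map_smul, Finsupp.smul_apply, Finsupp.smul_apply,
      repr_b, if_neg hz, smul_zero, smul_zero]
  · simp

open Classical in
/-- the permutation of a representative -/
noncomputable def sigmaOf (g : Cfsg.SU n F q) : Equiv.Perm (Pos k r) :=
  if h : ∃ i, sS D i = g then sw h.choose else swLast

open Classical in
/-- the roots of a representative -/
noncomputable def rootsOf (g : Cfsg.SU n F q) : Pos k r → Pos k r → Prop :=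
  if h : ∃ i, sS D i = g then Rsw h.choose else RLast

theorem mem_SS {s : SUn} (hs : s ∈ SS D) :
    (∃ i, s = sS D i ∧ sigmaOf D s = sw i ∧ rootsOf D s = Rsw i) ∨
      (s = sL D ∧ sigmaOf D s = swLast ∧ rootsOf D s = RLast) := by
  by_cases h : ∃ i, sS D i = s
  · exact Or.inl ⟨h.choose, h.choose_spec.symm, by rw [sigmaOf, dif_pos h], by rw [rootsOf, dif_pos h]⟩
  · rcases hs with ⟨i, hi⟩ | hs
    · exact absurd ⟨i, hi⟩ h
    · exact Or.inr ⟨hs, by rw [sigmaOf, dif_neg h], by rw [rootsOf, dif_neg h]⟩

theorem exists_n0 : ∃ A : SUn, (lay D).Mono BC.bar A := by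
  have hsign : Equiv.Perm.sign (Equiv.sumComm (Fin (k + 1)) (Fin (k + 1))) = (-1) ^ (k + 1) := by
    rw [Equiv.Perm.sign_of_pow_two_eq_one]
    · congr 1
      have : IsEmpty (Function.fixedPoints (Equiv.sumComm (Fin (k + 1)) (Fin (k + 1)))) :=
        ⟨fun ⟨x, hx⟩ => by rcases x with x | x <;> simp [Function.IsFixedPt] at hx⟩
      rw [Fintype.card_sum, Fintype.card_eq_zero (α := Function.fixedPoints _), Fintype.card_fin]
      omega
    · ext x; rcases x with x | x <;> rfl
  obtain ⟨A, hA⟩ := D.exists_mono (Equiv.sumCongr (Equiv.sumComm _ _) (Equiv.refl _))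
      (fun x => Sum.elim (Sum.elim (fun _ => zeta D) (fun _ => -(zeta D)⁻¹)) (fun _ => 1) x)
      (fun x => by rcases x with (i | i) | i <;> rfl)
      (fun x => by
        rcases x with (i | i) | i <;> simp [UTwoGen.bar, zeta_conj D, zeta_ne D])
      (by
        rw [Equiv.Perm.sign_sumCongr, Equiv.Perm.sign_refl, mul_one, hsign]
        simp only [Fintype.prod_sum_type, Sum.elim_inl, Sum.elim_inr, Finset.prod_const, one_pow,
          mul_one, Finset.card_univ, Fintype.card_fin]
        push_cast
        rw [← mul_pow, ← mul_pow]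
        have : (-1 : F) * (zeta D * -(zeta D)⁻¹) = 1 := by field_simp [zeta_ne D]
        rw [this, one_pow])
  refine ⟨A, fun a b h => ?_⟩
  rw [lay_mat, hA, map_smul, Finsupp.smul_apply, repr_b] at h
  split_ifs at h with hb
  · show pos a = BC.bar (pos b)
    rw [← hb, ← bar_eq]
    rfl
  · simp at h

/-- the apartment data -/
noncomputable def sys [Subsingleton (Fin r)] :
    Sys (Cfsg.SU n F q) F (UTwoGen.J k r) (Pos k r) where
  toLayout := lay D
  W := BC.W k r
  ε := BC.eps
  π0 := BC.bar
  n0 := (exists_n0 D).choose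
  S := SS D
  σ := sigmaOf D
  R := rootsOf D
  π0_mem := bar_mem
  n0_mono := (exists_n0 D).choose_spec
  anti := anti
  S_mono s hs := by
    rcases mem_SS D hs with ⟨i, hi, h1, -⟩ | ⟨hi, h1, -⟩
    · rw [h1, hi]; exact ⟨sS_mono D i, sw_sq i, sw_eps i⟩
    · rw [h1, hi]; exact ⟨sL_mono D, swLast_sq, swLast_eps⟩
  R_trans s := by
    unfold rootsOf; split_ifs with h
    exacts [Rsw_trans _, RLast_trans]
  R_lt s hs := by
    rcases mem_SS D hs with ⟨i, -, -, h⟩ | ⟨-, -, h⟩ <;> rw [h]
    exacts [Rsw_lt i, RLast_lt]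
  R_rev s hs := by
    rcases mem_SS D hs with ⟨i, -, h1, h⟩ | ⟨-, h1, h⟩ <;> rw [h, h1]
    exacts [Rsw_rev i, RLast_rev]
  orient s hs π hπ := by
    rcases mem_SS D hs with ⟨i, -, -, h⟩ | ⟨-, -, h⟩ <;> rw [h]
    exacts [Rsw_orient i hπ, RLast_orient hπ]
  sepW π hπ h := by
    have key : ∀ i, (∀ i', sS D i = sS D i' → i = i') ∧ sS D i ≠ sL D := fun i => by
      refine ⟨fun i' e => ?_, fun e => ?_⟩
      · have h3 := sS_mono D i
        rw [e] at h3
        have h4 := congrArg (fun e : Equiv.Perm (Pos k r) => e (pl i.castSucc))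
          (h3.unique (sS_mono D i'))
        simp only [sw_pl, pl_inj, Equiv.swap_apply_left] at h4
        rw [Equiv.swap_apply_def] at h4
        split_ifs at h4 with a1 a2 <;> simp [Fin.ext_iff] at * <;> omega
      · have h3 := sS_mono D i
        rw [e] at h3
        have h4 := congrArg (fun e : Equiv.Perm (Pos k r) => e (pl i.castSucc))
          (h3.unique (sL_mono D))
        simp only [sw_pl, Equiv.swap_apply_left, swLast_pl] at h4
        rw [if_neg (Fin.castSucc_ne_last i), pl_inj] at h4
        exact (Fin.castSucc_lt_succ (i := i)).ne h4.symm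
    refine eq_one_of_increasing hπ (fun i => ?_) ?_
    · rcases mem_SS D (Or.inl ⟨i, rfl⟩ : sS D i ∈ SS D) with ⟨i', hi, -, h2⟩ | ⟨hi, -, -⟩
      · obtain rfl := (key i).1 i' hi
        exact h _ (Or.inl ⟨i, rfl⟩) _ _ (by rw [h2]; exact Or.inl ⟨rfl, rfl⟩)
      · exact absurd hi (key i).2
    · rcases mem_SS D (Or.inr rfl : sL D ∈ SS D) with ⟨i', hi, -, -⟩ | ⟨-, -, h2⟩
      · exact absurd hi.symm (key i').2
      · exact h _ (Or.inr rfl) _ _ (by rw [h2]; exact Or.inr (Or.inr ⟨rfl, rfl⟩))
  X_nt s hs := by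
    rcases mem_SS D hs with ⟨i, -, -, h⟩ | ⟨-, -, h⟩ <;> rw [h]
    · refine ⟨xS D i 1, fun e => ?_, xS_supp D i 1⟩
      have h1 := xS_mulVec D i 1 (D.b (Sum.inl (Sum.inl i.succ)))
      rw [e, show ((1 : Cfsg.SU n F q) : Matrix.SpecialLinearGroup (Fin n) F).1 *ᵥ
        D.b (Sum.inl (Sum.inl i.succ)) = D.b (Sum.inl (Sum.inl i.succ)) from Matrix.one_mulVec _] at h1
      have h2 := congrArg (fun v => D.b.repr v (Sum.inl (Sum.inl i.castSucc))) h1
      simp [repr_b, (Fin.castSucc_lt_succ (i := i)).ne, (Fin.castSucc_lt_succ (i := i)).ne'] at h2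
    · obtain ⟨c, hc0, hc⟩ := exists_trace_zero C
      have ha : c + C.σ c + Cfsg.hermForm n F q (D.vec (0 : Fin r → F)) (D.vec 0) = 0 := by
        rw [D.vec_zero, form_zero_left, add_zero, hc]
      refine ⟨xL D 0 c ha, fun e => hc0 ?_, xL_supp D 0 c ha⟩
      have h1 := xL_mulVec D 0 c ha (D.b (Sum.inl (Sum.inr (Fin.last k))))
      rw [e, show ((1 : Cfsg.SU n F q) : Matrix.SpecialLinearGroup (Fin n) F).1 *ᵥ
        D.b (Sum.inl (Sum.inr (Fin.last k))) = D.b (Sum.inl (Sum.inr (Fin.last k)))
        from Matrix.one_mulVec _] at h1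
      have h2 := congrArg (fun v => D.b.repr v (Sum.inl (Sum.inl (Fin.last k)))) h1
      simpa [repr_b, D.vec_zero] using h2.symm
  factor s hs u hu := by
    rcases mem_SS D hs with ⟨i, -, h1, h⟩ | ⟨-, h1, h⟩ <;> rw [h, h1]
    · exact (factor_xS D i hu).imp fun x hx =>
        ⟨hx.1, hx.2.mono fun p q hp => ⟨hp.1, Rsw_out i p q hp.1 hp.2⟩⟩
    · exact (factor_xL D hu).imp fun x hx =>
        ⟨hx.1, hx.2.mono fun p q hp => ⟨hp.1, RLast_out p q hp.1 hp.2⟩⟩
  rank1 s hs x hx hx1 := by
    rcases mem_SS D hs with ⟨i, hi, -, h⟩ | ⟨hi, -, h⟩ <;> rw [h] at hx ⊢ <;> rw [hi]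
    · have e := eq_xS D i hx
      revert e
      generalize D.b.repr _ (Sum.inl (Sum.inl i.castSucc)) = t
      intro e
      subst e
      have ht : t ≠ 0 := fun h0 => hx1 (by
        subst h0
        refine D.ext_basis fun y => ?_
        rw [xS_mulVec, show ((1 : Cfsg.SU n F q) : Matrix.SpecialLinearGroup (Fin n) F).1 *ᵥ D.b y =
          D.b y from Matrix.one_mulVec _]
        simp)
      obtain ⟨A, hA, hr⟩ := xS_rank D i ht
      exact ⟨_, A, _, xS_supp D i _, xS_supp D i _, hA, hr⟩
    · obtain ⟨ha, e⟩ := eq_xL D hx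
      revert ha e
      generalize (fun j => D.b.repr _ (Sum.inr j)) = z
      generalize D.b.repr _ (Sum.inl (Sum.inl (Fin.last k))) = a
      intro ha e
      subst e
      have ha0 : a ≠ 0 := fun h0 => hx1 (by
        subst h0
        have hz : z = 0 := by
          funext l
          rw [map_zero, zero_add, zero_add, D.vec_form, Finset.sum_eq_single l] at ha
          · simpa using ha
          · intro b _ hb; exact absurd (Subsingleton.elim b l) hb
          · simp
        subst hz
        refine D.ext_basis fun y => ?_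
        rw [xL_mulVec, show ((1 : Cfsg.SU n F q) : Matrix.SpecialLinearGroup (Fin n) F).1 *ᵥ D.b y =
          D.b y from Matrix.one_mulVec _]
        simp [D.vec_zero])
      obtain ⟨A, z', a', ha', z'', ha'', hA, hr⟩ := xL_rank D z a ha ha0
      exact ⟨_, A, _, xL_supp D _ _ _, xL_supp D _ _ _, hA, hr⟩
  gen := gen_eq_top D

theorem hblock [Subsingleton (Fin r)] {p : ℕ} [Fact p.Prime] [CharP F p] (g : SUn)
    (hg : (lay D).Supp (· ≤ ·) g) (hp : ∃ j : ℕ, g ^ p ^ j = 1) :
    ∀ i j, pos i = pos j → ((lay D).mat g - 1) i j = 0 := by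
  intro i j hij
  obtain rfl := pos_inj hij
  obtain ⟨e, he⟩ := hp
  set M := (lay D).mat g with hM
  have hmul : ∀ a : ℕ, (M ^ a) i i = (M i i) ^ a := by
    intro a
    induction a with
    | zero => simp
    | succ a ih =>
      rw [pow_succ, Matrix.mul_apply, Finset.sum_eq_single i, ih, pow_succ]
      · intro b _ hb
        by_contra hc
        have h1 : (M ^ a) i b ≠ 0 := left_ne_zero_of_mul hc
        have h0 : (lay D).Supp (fun a b : Pos k r => a ≤ b) (g ^ a) :=
          Layout.Supp.pow (L := lay D) (R := fun a b : Pos k r => a ≤ b) (fun _ _ _ => le_trans) hg a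
        rw [hM, ← map_pow] at h1
        have h2 := Layout.Supp.entry (L := lay D) h0 h1
        have h3 := Layout.Supp.entry (L := lay D) hg (right_ne_zero_of_mul hc)
        exact hb (pos_inj (le_antisymm h3 h2))
      · simp
  have h1 : (M i i) ^ p ^ e = 1 := by rw [← hmul, hM, ← map_pow, he, map_one]; simp
  have h2 : (M i i - 1) ^ p ^ e = 0 := by rw [sub_pow_char_pow, h1, one_pow, sub_self]
  simpa using (pow_eq_zero_iff (pow_ne_zero _ (Fact.out : p.Prime).ne_zero)).1 h2

end CfsgLib.StChar.SU
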